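import Groth.Agent.NonAb.SchTorsor
import Groth.Agent.NormalExtLib.Basic
import Groth.Prelude.Def_ActBC

/-!
# Torsors over normal integral schemes: rational sections, classes
-/

set_option backward.isDefEq.respectTransparency.types false

universe u

open CategoryTheory Limits MonoidalCategory CartesianMonoidalCategory MonObj GrpObj AlgebraicGeometry

namespace NonAbLib

variable {S : Scheme.{u}} {G : Over S} [GrpObj G]

/-- A rational point of an integral morphism over a normal integral scheme extends to a section. -/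
theorem exists_section_of_generic {X' : Scheme.{u}} [IsIntegral S] (g : X' ⟶ S) [IsIntegralHom g]
    (hS : Pi1.IsNormalScheme S) (σ : Spec S.functionField ⟶ X')
    (hσ : σ ≫ g = S.fromSpecStalk (genericPoint S)) : ∃ s : S ⟶ X', s ≫ g = 𝟙 S := by
  choose F hFg hFη using Groth.Agent.NormalExtLib.exists_affine_lift g hS σ hσ
  let F' : ∀ (V : S.Opens), IsAffineOpen V → (((𝟙 S : S ⟶ S) ⁻¹ᵁ V).toScheme ⟶ X') := F
  obtain ⟨s, hs, -⟩ := Groth.Agent.ProjLib.existsUnique_glueAffine (𝟙 S) F' (fun V hV r ↦ by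
    show S.homOfLE (S.basicOpen_le r) ≫ F V hV = F (S.basicOpen r) (hV.basicOpen r)
    refine Groth.Agent.NormalExtLib.ext_of_generic g ?_ fun hη ↦ ?_
    · rw [Category.assoc, hFg, Scheme.homOfLE_ι, hFg]
    · rw [← Category.assoc, show (S.basicOpen r).fromSpecStalkOfMem _ hη ≫ S.homOfLE (S.basicOpen_le r) =
        V.fromSpecStalkOfMem _ (S.basicOpen_le r hη) by
          rw [← cancel_mono V.ι, Category.assoc, Scheme.homOfLE_ι, Scheme.Opens.fromSpecStalkOfMem_ι,
            Scheme.Opens.fromSpecStalkOfMem_ι], hFη, hFη])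
  refine ⟨s, Groth.Agent.ProjLib.hom_ext_affine (𝟙 S) fun V hV ↦ ?_⟩
  rw [reassoc_of% (hs V hV), Category.comp_id]
  exact hFg V hV

variable {K : Precoverage Scheme.{u}}

theorem equivIso_symm {X X' : Over S} {a : AlgGrp.Action G X} {a' : AlgGrp.Action G X'}
    (e : NonAbH1.EquivIso a a') : Nonempty (NonAbH1.EquivIso a' a) :=
  ⟨⟨e.iso.symm, by
    rw [Iso.symm_hom, Iso.comp_inv_eq, Category.assoc, e.comm, ← Category.assoc,
      ← MonoidalCategory.whiskerLeft_comp, Iso.inv_hom_id, MonoidalCategory.whiskerLeft_id,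
      Category.id_comp]⟩⟩

theorem equivIso_trans {X X' X'' : Over S} {a : AlgGrp.Action G X} {a' : AlgGrp.Action G X'}
    {a'' : AlgGrp.Action G X''} (e : NonAbH1.EquivIso a a') (e' : NonAbH1.EquivIso a' a'') :
    Nonempty (NonAbH1.EquivIso a a'') :=
  ⟨⟨e.iso ≪≫ e'.iso, by
    rw [Iso.trans_hom, ← Category.assoc, e.comm, Category.assoc, e'.comm,
      MonoidalCategory.whiskerLeft_comp, Category.assoc]⟩⟩

/-- Equality of classes of scheme torsors. -/
theorem schCl_eq_iff (P Q : NonAbH1.TorsorSch G K) :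
    P.cl = Q.cl ↔ Nonempty (NonAbH1.EquivIso P.act Q.act) := by
  constructor
  · intro h
    have := Quot.eqvGen_exact h
    clear h
    induction this with
    | rel _ _ h => exact h
    | refl x => exact ⟨⟨Iso.refl _, by simp⟩⟩
    | symm _ _ _ ih => exact ih.elim equivIso_symm
    | trans _ _ _ _ _ ih ih' => exact ih.elim fun e => ih'.elim fun e' => equivIso_trans e e'
  · exact fun h => Quot.sound h

theorem exists_point_of_hasSectionOver {X : Over S} (h : NonAbH1.HasSectionOver X (𝟙 S)) :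
    ∃ p : Over.mk (𝟙 S) ⟶ X, True :=
  let ⟨s, hs⟩ := h; ⟨Over.homMk s hs, trivial⟩

/-- A torsor with a section is the trivial one, and conversely. -/
theorem schCl_eq_one_iff [K.HasIsos] (P : NonAbH1.TorsorSch G K) :
    P.cl = 1 ↔ NonAbH1.HasSectionOver P.X (𝟙 S) := by
  refine (schCl_eq_iff P _).trans ⟨fun ⟨e⟩ => ?_, fun h => ?_⟩
  · exact ⟨(η[G] ≫ e.iso.inv).left, Over.w _⟩
  · obtain ⟨s, hs⟩ := h
    let p : G ⟶ P.X := toUnit G ≫ Over.homMk (U := 𝟙_ (Over S)) s hs
    let f : G ⟶ P.X := actPt P.act (𝟙 G) p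
    have heq : (NonAbH1.trivialAction G).act ≫ f = (G ◁ f) ≫ P.act.act := by
      show μ[G] ≫ f = _
      have h1 : (μ[G] : G ⊗ G ⟶ G) = fst G G * snd G G := by
        rw [Hom.mul_def, lift_fst_snd, Category.id_comp]
      have h2 : μ[G] ≫ p = snd G G ≫ p := by simp [p]
      rw [comp_actPt, Category.comp_id, h2, h1, actPt_mul,
        show G ◁ f = lift (fst G G) (snd G G ≫ f) from
          CartesianMonoidalCategory.hom_ext _ _ (by simp) (by simp), comp_actPt, Category.comp_id]
      rfl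
    have hiso : IsIso f := isIso_of_equivariant
      (NonAbH1.isTorsorFor_trivialAction G Scheme.fpqcPrecoverage) P.isTorsor.1 f heq
    obtain ⟨e⟩ := equivIso_symm (⟨asIso f, heq⟩ :
      NonAbH1.EquivIso (NonAbH1.trivialAction G) P.act)
    exact ⟨e⟩

/-- A torsor under a finite flat group over a normal integral base with a rational point is trivial. -/
theorem hasSectionOver_of_generic [IsIntegral S] (hS : Pi1.IsNormalScheme S) [IsFinite G.hom]
    {X : Over S} {a : AlgGrp.Action G X} (ha : NonAbH1.IsTorsorFor Scheme.fpqcPrecoverage a)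
    (hfin : MorphismProperty.DescendsAlong (@IsFinite : MorphismProperty Scheme.{u})
      (@Surjective ⊓ @Flat ⊓ @QuasiCompact : MorphismProperty Scheme.{u}))
    (h : NonAbH1.HasSectionOver X (S.fromSpecStalk (genericPoint S))) :
    NonAbH1.HasSectionOver X (𝟙 S) := by
  have : IsFinite X.hom := property_hom @IsFinite hfin ha ‹_›
  obtain ⟨σ, hσ⟩ := h
  exact exists_section_of_generic X.hom hS σ hσ

/-- Base change of a torsor along a homomorphism compatible morphism. -/
theorem isPushforwardAlongSch_bc {S' : Scheme.{u}} (f : S' ⟶ S) {G' X X' : Over S} [GrpObj G']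
    {g : G ⟶ G'} {a : AlgGrp.Action G X} {a' : AlgGrp.Action G' X'} {φ : X ⟶ X'}
    (h : a.act ≫ φ = lift (fst G X ≫ g) (snd G X ≫ φ) ≫ a'.act) :
    (a.bc f).act ≫ (Over.pullback f).map φ =
      lift (fst _ _ ≫ (Over.pullback f).map g) (snd _ _ ≫ (Over.pullback f).map φ) ≫ (a'.bc f).act := by
  have e : ∀ {A B A' B' : Over S'} (p : A ⟶ A') (q : B ⟶ B'),
      lift (fst A B ≫ p) (snd A B ≫ q) = p ⊗ₘ q := fun p q => by
    refine CartesianMonoidalCategory.hom_ext _ _ ?_ ?_ <;> simp
  have e' : lift (fst G X ≫ g) (snd G X ≫ φ) = g ⊗ₘ φ := by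
    refine CartesianMonoidalCategory.hom_ext _ _ ?_ ?_ <;> simp
  rw [e, AlgGrp.Action.bc_act, AlgGrp.Action.bc_act, Category.assoc, ← Functor.map_comp, h, e',
    Functor.map_comp, Functor.LaxMonoidal.μ_natural_assoc]

end NonAbLib
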