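import Groth.Prelude.Def_NonAbH2
import Groth.Agent.Desc19b.CoverLocal
import Mathlib.AlgebraicGeometry.Morphisms.FlatDescent

/-!
# Torsors under group schemes: trivialisation over a section, descent of properties and morphisms
-/

set_option backward.isDefEq.respectTransparency.types false

universe u

open CategoryTheory Limits MonoidalCategory CartesianMonoidalCategory MonObj GrpObj AlgebraicGeometry

namespace NonAbLib

variable {S : Scheme.{u}} {G X X' : Over S} [GrpObj G]

/-- Act on a point. -/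
noncomputable def actPt (a : AlgGrp.Action G X) {T : Over S} (g : T ⟶ G) (x : T ⟶ X) : T ⟶ X :=
  lift g x ≫ a.act

@[simp]
theorem comp_actPt (a : AlgGrp.Action G X) {T T' : Over S} (h : T' ⟶ T) (g : T ⟶ G) (x : T ⟶ X) :
    h ≫ actPt a g x = actPt a (h ≫ g) (h ≫ x) := by
  rw [actPt, actPt, ← Category.assoc, comp_lift]

theorem actPt_one (a : AlgGrp.Action G X) {T : Over S} (x : T ⟶ X) : actPt a 1 x = x := by
  simp only [actPt, Hom.one_def]
  calc lift (toUnit T ≫ η[G]) x ≫ a.act
      = (lift (toUnit T) x ≫ η[G] ▷ X) ≫ a.act := by simp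
    _ = lift (toUnit T) x ≫ (λ_ X).hom := by rw [Category.assoc, a.one_act]
    _ = x := by simp

theorem actPt_mul (a : AlgGrp.Action G X) {T : Over S} (g h : T ⟶ G) (x : T ⟶ X) :
    actPt a (g * h) x = actPt a g (actPt a h x) := by
  simp only [actPt, Hom.mul_def]
  calc lift (lift g h ≫ μ[G]) x ≫ a.act
      = lift (lift g h) x ≫ μ[G] ▷ X ≫ a.act := by rw [lift_whiskerRight_assoc]
    _ = lift (lift g h) x ≫ (α_ G G X).hom ≫ G ◁ a.act ≫ a.act := by rw [a.mul_act]
    _ = lift g (lift h x ≫ a.act) ≫ a.act := by simp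

/-- The pseudo-torsor map on points. -/
theorem lift_comp_psi (a : AlgGrp.Action G X) {T : Over S} (g : T ⟶ G) (x : T ⟶ X) :
    lift g x ≫ lift a.act (snd G X) = lift (actPt a g x) x := by
  simp [actPt]

/-- The translation element between two points of a pseudo-torsor. -/
theorem existsUnique_actPt {a : AlgGrp.Action G X} (ha : NonAbH1.IsPseudoTorsorSch a) {T : Over S}
    (x y : T ⟶ X) : ∃! g : T ⟶ G, actPt a g x = y := by
  have : IsIso (lift a.act (snd G X)) := ha
  let z := lift y x ≫ inv (lift a.act (snd G X))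
  have hz : z ≫ lift a.act (snd G X) = lift y x := by
    rw [Category.assoc, IsIso.inv_hom_id, Category.comp_id]
  have h2 : z ≫ snd G X = x := by simpa using congrArg (· ≫ snd X X) hz
  have h1 : z ≫ a.act = y := by simpa using congrArg (· ≫ fst X X) hz
  refine ⟨z ≫ fst G X, ?_, fun g hg => ?_⟩
  · show lift (z ≫ fst G X) x ≫ a.act = y
    rw [← h2, lift_comp_fst_snd]
    exact h1
  · have : lift g x = z := by
      rw [← cancel_mono (lift a.act (snd G X)), hz, lift_comp_psi, hg]
    simp [← this]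

/-- The morphism `(g, t) ↦ (g · s(t), t)` attached to a point `s`. -/
noncomputable def trivMap (a : AlgGrp.Action G X) {T : Over S} (s : T ⟶ X) : G ⊗ T ⟶ X ⊗ T :=
  lift (actPt a (fst G T) (snd G T ≫ s)) (snd G T)

theorem trivMap_eq (a : AlgGrp.Action G X) {T : Over S} (s : T ⟶ X) :
    trivMap a s = lift ((G ◁ s) ≫ a.act) (snd G T) := by
  rw [trivMap, actPt]
  congr 2

theorem isIso_trivMap {a : AlgGrp.Action G X} (ha : NonAbH1.IsPseudoTorsorSch a) {T : Over S}
    (s : T ⟶ X) : IsIso (trivMap a s) := by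
  obtain ⟨d, hd, -⟩ := existsUnique_actPt ha (snd X T ≫ s) (fst X T)
  refine ⟨lift d (snd X T), ?_, ?_⟩
  · have key : trivMap a s ≫ d = fst G T := by
      refine (existsUnique_actPt ha (snd G T ≫ s) (trivMap a s ≫ fst X T)).unique ?_ ?_
      · have := congrArg (trivMap a s ≫ ·) hd
        simpa [trivMap] using this
      · simp [trivMap]
    refine CartesianMonoidalCategory.hom_ext _ _ ?_ ?_
    · simp [key]
    · simp [trivMap]
  · refine CartesianMonoidalCategory.hom_ext _ _ ?_ ?_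
    · simpa [trivMap] using hd
    · simp [trivMap]

theorem trivMap_snd (a : AlgGrp.Action G X) {T : Over S} (s : T ⟶ X) :
    (trivMap a s).left ≫ pullback.snd X.hom T.hom = pullback.snd G.hom T.hom := by
  show (trivMap a s).left ≫ (snd X T).left = (snd G T).left
  rw [← Over.comp_left]
  simp [trivMap]

/-- A covering family of a presieve as a cover. -/
theorem exists_cover {K : Precoverage Scheme.{u}} {R : Presieve S} (hR : R ∈ K S) :
    ∃ 𝒰 : Scheme.Cover.{u + 1} K S, ∀ i, R (𝒰.f i) := by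
  obtain ⟨I, Y, f, rfl⟩ := R.exists_eq_ofArrows
  exact ⟨{ PreZeroHypercover.mk I Y f with mem₀ := hR }, fun i => ⟨i⟩⟩

/-- Fpqc torsors have the fpqc local properties of the group. -/
theorem property_hom (P : MorphismProperty Scheme.{u}) [P.IsStableUnderBaseChange]
    [IsZariskiLocalAtTarget P]
    (hP : P.DescendsAlong (@Surjective ⊓ @Flat ⊓ @QuasiCompact : MorphismProperty Scheme.{u}))
    {a : AlgGrp.Action G X} (ha : NonAbH1.IsTorsorFor Scheme.fpqcPrecoverage a) (hG : P G.hom) :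
    P X.hom := by
  obtain ⟨hps, R, hR, hsec⟩ := ha
  obtain ⟨𝒰, h𝒰⟩ := exists_cover hR
  refine Groth.Agent.Desc19b.of_fpqcCover P hP X.hom 𝒰 fun i => ?_
  obtain ⟨s, hs⟩ := hsec _ (h𝒰 i)
  let s' : Over.mk (𝒰.f i) ⟶ X := Over.homMk s hs
  have := isIso_trivMap hps s'
  have : IsIso (trivMap a s').left := Functor.map_isIso (Over.forget S) (trivMap a s')
  have h := P.pullback_snd G.hom (𝒰.f i) hG
  have e : (trivMap a s').left ≫ pullback.snd X.hom (𝒰.f i) = pullback.snd G.hom (𝒰.f i) :=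
    trivMap_snd a s'
  rw [← e] at h
  exact (P.cancel_left_of_respectsIso _ _).mp h

theorem fppf_isTorsorFor_fpqc {a : AlgGrp.Action G X}
    (ha : NonAbH1.IsTorsorFor Scheme.fppfPrecoverage a) :
    NonAbH1.IsTorsorFor Scheme.fpqcPrecoverage a := by
  obtain ⟨hps, R, hR, hsec⟩ := ha
  exact ⟨hps, R, Scheme.fppfPrecoverage_le_fpqcPrecoverage S hR, hsec⟩

theorem surjective_hom (a : AlgGrp.Action G X)
    (ha : NonAbH1.IsTorsorFor Scheme.fpqcPrecoverage a) : Surjective X.hom := by
  refine ⟨fun y => ?_⟩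
  obtain ⟨-, R, hR, hsec⟩ := ha
  obtain ⟨𝒰, h𝒰⟩ := exists_cover hR
  obtain ⟨i, z, hz⟩ := ((Scheme.presieve₀_mem_precoverage_iff 𝒰.toPreZeroHypercover).1 𝒰.mem₀.2).1 y
  obtain ⟨s, hs⟩ := hsec _ (h𝒰 i)
  exact ⟨s z, by rw [← Scheme.Hom.comp_apply, hs]; exact hz⟩

/-- An equivariant morphism of torsors is an isomorphism. -/
theorem isIso_of_equivariant {a : AlgGrp.Action G X} {a' : AlgGrp.Action G X'}
    (ha : NonAbH1.IsTorsorFor Scheme.fpqcPrecoverage a) (ha' : NonAbH1.IsPseudoTorsorSch a')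
    (f : X ⟶ X') (hf : a.act ≫ f = (G ◁ f) ≫ a'.act) : IsIso f := by
  obtain ⟨hps, R, hR, hsec⟩ := ha
  obtain ⟨𝒰, h𝒰⟩ := exists_cover hR
  suffices IsIso f.left by
    have : IsIso ((Over.forget S).map f) := this
    exact isIso_of_reflects_iso f (Over.forget S)
  let 𝒱 : Scheme.Cover.{u + 1} Scheme.fpqcPrecoverage X'.left :=
    Precoverage.ZeroHypercover.pullback₁ X'.hom 𝒰
  refine Groth.Agent.Desc19b.of_fpqcCover (MorphismProperty.isomorphisms Scheme.{u}) inferInstance
    f.left 𝒱 fun i => ?_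
  obtain ⟨s, hs⟩ := hsec _ (h𝒰 i)
  let T : Over S := Over.mk (𝒰.f i)
  let s' : T ⟶ X := Over.homMk s hs
  have : IsIso (trivMap a s') := isIso_trivMap hps s'
  have : IsIso (trivMap a' (s' ≫ f)) := isIso_trivMap ha' _
  have hw : f ▷ T = inv (trivMap a s') ≫ trivMap a' (s' ≫ f) := by
    rw [IsIso.eq_inv_comp]
    refine CartesianMonoidalCategory.hom_ext _ _ ?_ ?_
    · simp only [trivMap, actPt, Category.assoc, whiskerRight_fst, lift_fst, lift_fst_assoc, hf]
      simp
    · simp [trivMap]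
  have hiso : IsIso (f ▷ T).left := by
    have : IsIso (f ▷ T) := by rw [hw]; infer_instance
    exact Functor.map_isIso (Over.forget S) (f ▷ T)
  have sq : IsPullback (f ▷ T).left (pullback.fst X.hom T.hom) (pullback.fst X'.hom T.hom) f.left := by
    refine IsPullback.of_right ?_ ?_ (IsPullback.of_hasPullback X'.hom T.hom).flip
    · have h2 : (f ▷ T).left ≫ pullback.snd X'.hom T.hom = pullback.snd X.hom T.hom := by
        show (f ▷ T).left ≫ (snd X' T).left = (snd X T).left
        rw [← Over.comp_left, whiskerRight_snd]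
      rw [h2, Over.w f]
      exact (IsPullback.of_hasPullback X.hom T.hom).flip
    · show (f ▷ T).left ≫ (fst X' T).left = (fst X T).left ≫ f.left
      rw [← Over.comp_left, whiskerRight_fst, Over.comp_left]
  show IsIso (pullback.snd f.left (pullback.fst X'.hom (𝒰.f i)))
  rw [show pullback.snd f.left (pullback.fst X'.hom (𝒰.f i)) =
    sq.flip.isoPullback.inv ≫ (f ▷ T).left from (sq.flip.isoPullback_inv_snd).symm]
  infer_instance

theorem isSheafFor_hom {R : Presieve S} (hR : R ∈ Scheme.fpqcPrecoverage S) (Z : Scheme.{u}) :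
    R.IsSheafFor (yoneda.obj Z) :=
  (Presieve.isSheafFor_iff_generate R).mpr
    ((GrothendieckTopology.Subcanonical.isSheaf_of_isRepresentable (J := Scheme.fpqcTopology)
      (yoneda.obj Z)) _ (Precoverage.generate_mem_toGrothendieck hR))

/-- Invariant morphisms out of a torsor factor uniquely through the base. -/
theorem existsUnique_desc {a : AlgGrp.Action G X}
    (ha : NonAbH1.IsTorsorFor Scheme.fpqcPrecoverage a) (Z : Scheme.{u}) :
    Function.Injective (fun h : S ⟶ Z => X.hom ≫ h) ∧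
      ∀ φ : X.left ⟶ Z, (∃ h, X.hom ≫ h = φ) ↔ a.act.left ≫ φ = (snd G X).left ≫ φ := by
  obtain ⟨hps, R, hR, hsec⟩ := ha
  refine ⟨fun h h' e => ?_, fun φ => ⟨?_, fun hφ => ?_⟩⟩
  · refine (isSheafFor_hom hR Z).isSeparatedFor.ext fun S' g hg => ?_
    obtain ⟨s, hs⟩ := hsec g hg
    show g ≫ h = g ≫ h'
    rw [← hs, Category.assoc, Category.assoc]
    exact congrArg (s ≫ ·) e
  · rintro ⟨h, rfl⟩
    rw [← Category.assoc, ← Category.assoc, Over.w a.act, Over.w (snd G X)]
  · have inv : ∀ (T : Over S) (x y : T ⟶ X), x.left ≫ φ = y.left ≫ φ := fun T x y => by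
      obtain ⟨g, hg, -⟩ := existsUnique_actPt hps x y
      rw [← hg, actPt, Over.comp_left, Category.assoc, hφ, ← Category.assoc, ← Over.comp_left,
        lift_snd]
    have inv' : ∀ {T : Scheme.{u}} (x y : T ⟶ X.left), x ≫ X.hom = y ≫ X.hom →
        x ≫ φ = y ≫ φ := fun x y h =>
      inv (Over.mk (x ≫ X.hom)) (Over.homMk x) (Over.homMk y h.symm)
    choose s hs using hsec
    let x : Presieve.FamilyOfElements (yoneda.obj Z) R := fun S' g hg => s g hg ≫ φ
    have hx : x.Compatible := by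
      intro Y₁ Y₂ W g₁ g₂ f₁ f₂ h₁ h₂ hw
      show g₁ ≫ s f₁ h₁ ≫ φ = g₂ ≫ s f₂ h₂ ≫ φ
      rw [← Category.assoc, ← Category.assoc]
      exact inv' _ _ (by rw [Category.assoc, Category.assoc, hs, hs, hw])
    obtain ⟨h, hh, -⟩ := isSheafFor_hom hR Z x hx
    refine ⟨h, ?_⟩
    have hR' : Sieve.generate R ∈ Scheme.fpqcTopology S := Precoverage.generate_mem_toGrothendieck hR
    refine (GrothendieckTopology.Subcanonical.isSheaf_of_isRepresentable (J := Scheme.fpqcTopology) (yoneda.obj Z) _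
      (Scheme.fpqcTopology.pullback_stable X.hom hR')).isSeparatedFor.ext ?_
    rintro W g ⟨S', b, f, hf, e⟩
    show g ≫ X.hom ≫ h = g ≫ φ
    have hh' : f ≫ h = s f hf ≫ φ := hh f hf
    rw [← Category.assoc, ← e, Category.assoc, hh', ← Category.assoc]
    exact inv' _ _ (by rw [Category.assoc, hs, e])

/-- An action which is the translation action over each member of an fpqc family is a pseudo-torsor. -/
theorem isPseudoTorsorSch_of_local (a : AlgGrp.Action G X) {R : Presieve S}
    (hR : R ∈ Scheme.fpqcPrecoverage S)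
    (h : ∀ ⦃S' : Scheme.{u}⦄ (f : S' ⟶ S), R f → ∃ s : Over.mk f ⟶ X, IsIso (trivMap a s)) :
    NonAbH1.IsPseudoTorsorSch a := by
  obtain ⟨𝒰, h𝒰⟩ := exists_cover hR
  let ψ : G ⊗ X ⟶ X ⊗ X := lift a.act (snd G X)
  show IsIso ψ
  suffices IsIso ψ.left by
    have : IsIso ((Over.forget S).map ψ) := this
    exact isIso_of_reflects_iso ψ (Over.forget S)
  let 𝒱 : Scheme.Cover.{u + 1} Scheme.fpqcPrecoverage (X ⊗ X).left :=
    Precoverage.ZeroHypercover.pullback₁ (X ⊗ X).hom 𝒰
  refine Groth.Agent.Desc19b.of_fpqcCover (MorphismProperty.isomorphisms Scheme.{u}) inferInstance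
    ψ.left 𝒱 fun i => ?_
  obtain ⟨s₀, hiso₀⟩ := h _ (h𝒰 i)
  let T : Over S := Over.mk (𝒰.f i)
  let s : T ⟶ X := s₀
  have hiso : IsIso (trivMap a s) := hiso₀
  have hd : ∃ d : X ⊗ T ⟶ G, actPt a d (snd X T ≫ s) = fst X T ∧
      ∀ {W : Over S} (g : W ⟶ G) (t : W ⟶ T), lift (actPt a g (t ≫ s)) t ≫ d = g := by
    refine ⟨inv (trivMap a s) ≫ fst G T, ?_, fun {W} g t => ?_⟩
    · have hd2 : inv (trivMap a s) ≫ snd G T = snd X T := by
        rw [IsIso.inv_comp_eq]
        simp [trivMap]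
      have h1 : inv (trivMap a s) ≫ trivMap a s ≫ fst X T = fst X T := IsIso.inv_hom_id_assoc _ _
      refine Eq.trans ?_ h1
      rw [← hd2, Category.assoc, ← comp_actPt]
      congr 1
      simp [trivMap]
    · have : lift (actPt a g (t ≫ s)) t = lift g t ≫ trivMap a s := by
        refine CartesianMonoidalCategory.hom_ext _ _ ?_ ?_
        · simp [trivMap]
        · simp [trivMap]
      rw [this, Category.assoc, IsIso.hom_inv_id_assoc, lift_fst]
  obtain ⟨d, hd, hd'⟩ := hd
  have hiso' : IsIso (ψ ▷ T) := by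
    let x : (X ⊗ X) ⊗ T ⟶ X := fst _ T ≫ fst X X
    let y : (X ⊗ X) ⊗ T ⟶ X := fst _ T ≫ snd X X
    let t : (X ⊗ X) ⊗ T ⟶ T := snd _ T
    refine ⟨lift (lift ((lift x t ≫ d) * (lift y t ≫ d)⁻¹) y) t, ?_, ?_⟩
    · let g : (G ⊗ X) ⊗ T ⟶ G := fst _ T ≫ fst G X
      let x' : (G ⊗ X) ⊗ T ⟶ X := fst _ T ≫ snd G X
      have hx' : actPt a (lift x' (snd _ T) ≫ d) (snd _ T ≫ s) = x' := by
        simpa using congrArg (lift x' (snd _ T) ≫ ·) hd
      have e1 : lift (actPt a g x') (snd _ T) ≫ d = g * (lift x' (snd _ T) ≫ d) := by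
        conv_lhs => rw [← hx', ← actPt_mul]
        exact hd' _ _
      have e2 : (ψ ▷ T) ≫ x = actPt a g x' := by
        simp [ψ, x, g, x', actPt, ← comp_lift_assoc, lift_fst_snd]
      have e3 : (ψ ▷ T) ≫ y = x' := by simp [ψ, y, x']
      have e4 : (ψ ▷ T) ≫ t = snd _ T := by simp [t]
      refine CartesianMonoidalCategory.hom_ext _ _ ?_ (by simp [e4])
      refine CartesianMonoidalCategory.hom_ext _ _ ?_ (by simp [e3, x'])
      simp only [Category.assoc, lift_fst, GrpObj.comp_inv, MonObj.comp_mul, comp_lift_assoc,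
        e2, e3, e4, e1, mul_inv_cancel_right, Category.id_comp]
      rfl
    · have hx : actPt a (lift x t ≫ d) (t ≫ s) = x := by
        simpa using congrArg (lift x t ≫ ·) hd
      have hy : actPt a (lift y t ≫ d) (t ≫ s) = y := by
        simpa using congrArg (lift y t ≫ ·) hd
      refine CartesianMonoidalCategory.hom_ext _ _ ?_ (by simp [t])
      refine CartesianMonoidalCategory.hom_ext _ _ ?_ (by simp [ψ, y])
      have e : actPt a ((lift x t ≫ d) * (lift y t ≫ d)⁻¹) y = x := by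
        refine Eq.trans (congrArg (actPt a _) hy.symm) ?_
        rw [← actPt_mul, inv_mul_cancel_right]
        exact hx
      simp only [actPt] at e
      simp [ψ, e, x]
  have hl : IsIso (ψ ▷ T).left := Functor.map_isIso (Over.forget S) (ψ ▷ T)
  have sq : IsPullback (ψ ▷ T).left (pullback.fst (G ⊗ X).hom T.hom)
      (pullback.fst (X ⊗ X).hom T.hom) ψ.left := by
    refine IsPullback.of_right ?_ ?_ (IsPullback.of_hasPullback (X ⊗ X).hom T.hom).flip
    · have h2 : (ψ ▷ T).left ≫ pullback.snd (X ⊗ X).hom T.hom = pullback.snd (G ⊗ X).hom T.hom := by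
        show (ψ ▷ T).left ≫ (snd (X ⊗ X) T).left = (snd (G ⊗ X) T).left
        rw [← Over.comp_left, whiskerRight_snd]
      rw [h2, Over.w ψ]
      exact (IsPullback.of_hasPullback (G ⊗ X).hom T.hom).flip
    · show (ψ ▷ T).left ≫ (fst (X ⊗ X) T).left = (fst (G ⊗ X) T).left ≫ ψ.left
      rw [← Over.comp_left, whiskerRight_fst, Over.comp_left]
  show IsIso (pullback.snd ψ.left (pullback.fst (X ⊗ X).hom (𝒰.f i)))
  rw [show pullback.snd ψ.left (pullback.fst (X ⊗ X).hom (𝒰.f i)) =
    sq.flip.isoPullback.inv ≫ (ψ ▷ T).left from (sq.flip.isoPullback_inv_snd).symm]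
  infer_instance

end NonAbLib
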