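import Groth.Agent.NonAb.NormalBase
import Groth.Agent.AlgSpLib.FppfLocal
import Groth.Agent.Et18.EtaleLocalRing
import Groth.Agent.H8Lim.BiratNormal
import Groth.Agent.SGA3xLib.SepFibre
import Groth.Agent.FlatMorWeight.Comp

/-!
# Torsors under étale groups over a field, on a normal integral base: rational points extend
-/

set_option backward.isDefEq.respectTransparency.types false

universe u

open CategoryTheory Limits AlgebraicGeometry TopologicalSpace

namespace NonAbLib

/-- Base changes of étale schemes over a field: specialisations lift. -/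
theorem exists_specializes_lift {k : Type u} [Field k] {Y R P : Scheme.{u}}
    {g : Y ⟶ Spec (CommRingCat.of k)} [Etale g] {q : R ⟶ Spec (CommRingCat.of k)}
    {p₁ : P ⟶ Y} {p₂ : P ⟶ R} (sq : IsPullback p₁ p₂ g q) (z : P) {t : R} (h : p₂ z ⤳ t) :
    ∃ z' : P, z ⤳ z' ∧ p₂ z' = t := by
  have := Groth.Agent.FlatMorWeight.locallyQuasiFinite_of_etale g
  have hdisc : DiscreteTopology Y := by
    have h1 := g.isDiscrete_preimage_singleton (default : Spec (CommRingCat.of k))
    have h2 : g ⁻¹' {(default : Spec (CommRingCat.of k))} = Set.univ :=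
      Set.eq_univ_of_forall fun y => Subsingleton.elim (g y) _
    rw [h2] at h1
    exact isDiscrete_univ_iff.mp h1
  let U : Y.Opens := ⟨{p₁ z}, isOpen_discrete _⟩
  have : Subsingleton U := ⟨fun a b => Subtype.ext
    ((show a.1 ∈ ({p₁ z} : Set Y) from a.2).trans (show b.1 ∈ ({p₁ z} : Set Y) from b.2).symm)⟩
  have : CompactSpace (U : Scheme.{u}) := Finite.compactSpace
  have : QuasiCompact (U.ι ≫ g) := quasiCompact_iff_compactSpace _ |>.mpr inferInstance
  have : IsFinite (U.ι ≫ g) := IsFinite.of_locallyQuasiFinite _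
  have sq' : IsPullback (p₁ ∣_ U) ((p₁ ⁻¹ᵁ U).ι ≫ p₂) (U.ι ≫ g) q :=
    (isPullback_morphismRestrict p₁ U).paste_vert sq
  have : IsFinite ((p₁ ⁻¹ᵁ U).ι ≫ p₂) := MorphismProperty.of_isPullback sq' inferInstance
  have hz : z ∈ p₁ ⁻¹ᵁ U := rfl
  obtain ⟨w, hw, hwt⟩ := ((p₁ ⁻¹ᵁ U).ι ≫ p₂).isClosedMap.specializingMap
    (show ((p₁ ⁻¹ᵁ U).ι ≫ p₂) ⟨z, hz⟩ ⤳ t from h)
  exact ⟨(p₁ ⁻¹ᵁ U).ι w, hw.map (p₁ ⁻¹ᵁ U).ι.continuous, hwt⟩

theorem isClosed_closure_open {E S : Scheme.{u}} (e : E ⟶ S) [Etale e] [IsIntegral S]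
    (hS : Pi1.IsNormalScheme S) (a : E) (ha : e a = genericPoint S) :
    IsOpen (closure ({a} : Set E)) := by
  have := Groth.Agent.FlatMorWeight.locallyQuasiFinite_of_etale e
  have hmin : ∀ b, e b = genericPoint S → ∀ z, z ⤳ b → z = b := by
    intro b hb z hz
    have hzη : e z = genericPoint S :=
      ((hz.map e.continuous).trans (hb ▸ specializes_rfl)).antisymm
        (genericPoint_specializes _) |>.eq
    have := isDiscrete_iff_discreteTopology.mp (e.isDiscrete_preimage_singleton (genericPoint S))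
    exact congrArg Subtype.val (((subtype_specializes_iff
      (x := (⟨z, hzη⟩ : e ⁻¹' {genericPoint S})) (y := ⟨b, hb⟩)).mpr hz).eq)
  have hdom : ∀ y : E, IsDomain (E.presheaf.stalk y) := fun y =>
    ((Groth.Agent.Et18.normal_stalk_iff_of_etale e y).mpr (hS _)).1
  refine isOpen_iff_forall_mem_open.mpr fun y hy => ?_
  obtain ⟨_, ⟨V, hV, rfl⟩, hyV, -⟩ :=
    E.isBasis_affineOpens.exists_subset_of_mem_open (Set.mem_univ y) isOpen_univ
  obtain ⟨_, ⟨W, hW, rfl⟩, hyW, -⟩ :=
    S.isBasis_affineOpens.exists_subset_of_mem_open (Set.mem_univ (e y)) isOpen_univ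
  obtain ⟨_, ⟨V', hV', rfl⟩, hyV', hV'W⟩ :=
    E.isBasis_affineOpens.exists_subset_of_mem_open (show y ∈ e ⁻¹ᵁ W from hyW) (e ⁻¹ᵁ W).isOpen
  have hle : V' ≤ e ⁻¹ᵁ W := hV'W
  have : IsAffine (V' : Scheme.{u}) := hV'
  have : IsAffine (W : Scheme.{u}) := hW
  have hηW : genericPoint S ∈ W := (genericPoint_specializes _).mem_open W.isOpen hyW
  have hfin : ((V' : Set E) ∩ e ⁻¹' {genericPoint S}).Finite := by
    have h1 := (e.resLE W V' hle).finite_preimage_singleton ⟨genericPoint S, hηW⟩
    refine (h1.image (Scheme.Opens.ι V')).subset ?_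
    rintro b ⟨hb, hb'⟩
    refine ⟨⟨b, hb⟩, ?_, rfl⟩
    apply (Scheme.Opens.ι W).isOpenEmbedding.injective
    show ((e.resLE W V' hle) ≫ Scheme.Opens.ι W) ⟨b, hb⟩ = genericPoint S
    rw [Scheme.Hom.resLE_comp_ι]
    exact hb'
  let B := ((V' : Set E) ∩ e ⁻¹' {genericPoint S}) \ {a}
  refine ⟨(V' : Set E) \ ⋃ b ∈ B, closure {b}, ?_, ?_, ⟨hyV', ?_⟩⟩
  · rintro w ⟨hwV, hw⟩
    obtain ⟨b, hbw, hb⟩ := Flat.generalizingMap e (genericPoint_specializes (e w))
    have hbV : b ∈ V' := hbw.mem_open V'.isOpen hwV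
    by_cases hba : b = a
    · subst hba; exact specializes_iff_mem_closure.mp hbw
    · exact absurd (Set.mem_iUnion₂.mpr ⟨b, ⟨⟨hbV, hb⟩, hba⟩, specializes_iff_mem_closure.mp hbw⟩) hw
  · exact V'.isOpen.sdiff ((hfin.subset Set.diff_subset).isClosed_biUnion fun _ _ => isClosed_closure)
  · intro hy'
    obtain ⟨b, ⟨⟨-, hb⟩, hba⟩, hyb⟩ := Set.mem_iUnion₂.mp hy'
    have key : ∀ c, e c = genericPoint S → c ⤳ y → c = E.fromSpecStalk y (⊥ : PrimeSpectrum _) := by
      intro c hc hcy
      have := hdom y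
      obtain ⟨q, rfl⟩ : c ∈ Set.range (E.fromSpecStalk y) := by rw [Scheme.range_fromSpecStalk]; exact hcy
      refine (hmin _ hc _ ?_).symm
      exact ((PrimeSpectrum.le_iff_specializes _ _).mp bot_le).map (E.fromSpecStalk y).continuous
    exact hba ((key b hb (specializes_iff_mem_closure.mpr hyb)).trans
      (key a ha (specializes_iff_mem_closure.mpr hy)).symm)

theorem surjective_stalkClosedPointTo_of_eq {S : Scheme.{u}} (η : S)
    (f : Spec (S.residueField η) ⟶ S) (hf : f = S.fromSpecResidueField η) :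
    Function.Surjective (Scheme.stalkClosedPointTo f).hom := by
  subst hf
  intro r
  obtain ⟨a, rfl⟩ := S.residue_surjective η r
  obtain ⟨U, hU, b, rfl⟩ := TopCat.Presheaf.exists_germ_eq S.presheaf a
  have hU' : S.fromSpecResidueField η (IsLocalRing.closedPoint _) ∈ U := by
    rw [Scheme.fromSpecResidueField_apply]; exact hU
  have : IsLocalHom (S.residue η).hom :=
    IsLocalRing.of_surjective' _ (S.residue_surjective η) |> fun _ => inferInstanceAs (IsLocalHom (IsLocalRing.residue (S.presheaf.stalk η)))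
  exact ⟨S.presheaf.germ U _ hU' b, ConcreteCategory.congr_hom
    (Scheme.germ_stalkClosedPointTo_Spec_fromSpecStalk (S.residue η) U hU') b⟩

/-- A rational point of an integral scheme at its generic point gives birationality there. -/
theorem isIso_stalkMap_of_point {S C : Scheme.{u}} [IsIntegral S] [IsIntegral C] (g : C ⟶ S)
    (y : Spec (S.residueField (genericPoint S)) ⟶ C)
    (hy : y ≫ g = S.fromSpecResidueField (genericPoint S))
    (hC : y (IsLocalRing.closedPoint _) = genericPoint C) :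
    IsIso (g.stalkMap (y (IsLocalRing.closedPoint _))) := by
  have hsurj := surjective_stalkClosedPointTo_of_eq _ (y ≫ g) hy
  rw [Scheme.stalkClosedPointTo_comp] at hsurj
  have hinj : Function.Injective (Scheme.stalkClosedPointTo y).hom := by
    have hF : IsField (C.presheaf.stalk (y (IsLocalRing.closedPoint _))) := by
      rw [hC]; exact Field.toIsField C.functionField
    letI := hF.toField
    exact (Scheme.stalkClosedPointTo y).hom.injective
  rw [ConcreteCategory.isIso_iff_bijective]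
  refine ⟨?_, fun c => ?_⟩
  · have hF : IsField (S.presheaf.stalk (g (y (IsLocalRing.closedPoint _)))) := by
      have e : g (y (IsLocalRing.closedPoint _)) = genericPoint S := by
        rw [← Scheme.Hom.comp_apply, hy]
        exact Scheme.fromSpecResidueField_apply _ _
      rw [e]; exact Field.toIsField S.functionField
    letI := hF.toField
    exact (g.stalkMap _).hom.injective
  · obtain ⟨b, hb⟩ := hsurj ((Scheme.stalkClosedPointTo y).hom c)
    exact ⟨b, hinj hb⟩

variable {k : Type u} [Field k] {S : Scheme.{u}} [IsIntegral S] (s : S ⟶ Spec (CommRingCat.of k))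
  {G : Over (Spec (CommRingCat.of k))} [GrpObj G]
  {X : Over S} (a : AlgGrp.Action (Red.bc s G) X)

theorem etale_isSeparated_hom [Etale G.hom] (ha : NonAbH1.IsTorsorFor Scheme.fpqcPrecoverage a) :
    Etale X.hom ∧ IsSeparated X.hom := by
  have := Groth.Agent.SGA3xLib.isSeparated_of_grpObj G
  exact ⟨property_hom @Etale inferInstance ha
      (inferInstanceAs (Etale (pullback.snd G.hom s))),
    property_hom @IsSeparated Groth.Agent.Et18.descends_isSeparated ha
      (inferInstanceAs (IsSeparated (pullback.snd G.hom s)))⟩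

/-- A point of the generic fibre specialises to points over every point of the base. -/
theorem exists_specializes_over [Etale G.hom] (ha : NonAbH1.IsTorsorFor Scheme.fppfPrecoverage a)
    (x₀ : X.left) (hx₀ : X.hom x₀ = genericPoint S) (p : S) :
    ∃ w : X.left, x₀ ⤳ w ∧ X.hom w = p := by
  obtain ⟨hps, R, hR, hsec⟩ := ha
  obtain ⟨𝒰, h𝒰⟩ := exists_cover hR
  obtain ⟨hsurj, hprop⟩ :=
    (Scheme.presieve₀_mem_precoverage_iff (P := @Flat ⊓ @LocallyOfFinitePresentation)
      𝒰.toPreZeroHypercover).1 𝒰.mem₀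
  obtain ⟨i, t, rfl⟩ := hsurj p
  have : Flat (𝒰.f i) := (hprop i).1
  obtain ⟨t', ht', ht'η⟩ := Flat.generalizingMap (𝒰.f i) (genericPoint_specializes ((𝒰.f i) t))
  obtain ⟨σ, hσ⟩ := hsec _ (h𝒰 i)
  have := isIso_trivMap hps (Over.homMk (U := Over.mk (𝒰.f i)) σ hσ)
  let φ := (trivMap a (Over.homMk (U := Over.mk (𝒰.f i)) σ hσ)).left
  have hiso : IsIso φ := Functor.map_isIso (Over.forget S) (trivMap a (Over.homMk (U := Over.mk (𝒰.f i)) σ hσ))
  have hφ : φ ≫ pullback.snd X.hom (𝒰.f i) = pullback.snd (Red.bc s G).hom (𝒰.f i) :=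
    trivMap_snd a _
  obtain ⟨z, hz1, hz2⟩ := Scheme.Pullback.exists_preimage_pullback (f := X.hom) (g := 𝒰.f i)
    x₀ t' (hx₀.trans ht'η.symm)
  obtain ⟨z₀, rfl⟩ := φ.surjective z
  have hz2' : pullback.snd (Red.bc s G).hom (𝒰.f i) z₀ ⤳ t := by
    rw [← hφ, Scheme.Hom.comp_apply, hz2]; exact ht'
  obtain ⟨z', hzz', hz'⟩ := exists_specializes_lift
    (sq := (IsPullback.of_hasPullback (Red.bc s G).hom (𝒰.f i)).paste_horiz
      (IsPullback.of_hasPullback G.hom s)) z₀ hz2'
  refine ⟨pullback.fst X.hom (𝒰.f i) (φ z'), ?_, ?_⟩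
  · rw [← hz1]
    exact hzz'.map (φ ≫ pullback.fst X.hom (𝒰.f i)).continuous
  · rw [← Scheme.Hom.comp_apply, ← Scheme.Hom.comp_apply, pullback.condition, reassoc_of% hφ,
      Scheme.Hom.comp_apply, hz']

/-- The rational points of an étale separated torsor are the sections. -/
theorem existsUnique_section_of_point [Etale G.hom] (hS : Pi1.IsNormalScheme S)
    (ha : NonAbH1.IsTorsorFor Scheme.fppfPrecoverage a) :
    (∀ σ₁ σ₂ : S ⟶ X.left, σ₁ ≫ X.hom = 𝟙 S → σ₂ ≫ X.hom = 𝟙 S →
        S.fromSpecResidueField (genericPoint S) ≫ σ₁ = S.fromSpecResidueField (genericPoint S) ≫ σ₂ →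
        σ₁ = σ₂) ∧
    (∀ x : Spec (S.residueField (genericPoint S)) ⟶ X.left,
        x ≫ X.hom = S.fromSpecResidueField (genericPoint S) →
        ∃ σ : S ⟶ X.left, σ ≫ X.hom = 𝟙 S ∧ S.fromSpecResidueField (genericPoint S) ≫ σ = x) := by
  obtain ⟨het, hsep⟩ := etale_isSeparated_hom s a (fppf_isTorsorFor_fpqc ha)
  refine ⟨fun σ₁ σ₂ h₁ h₂ h => ?_, fun x hx => ?_⟩
  · have : IsDominant (S.fromSpecResidueField (genericPoint S)) :=
      ⟨by rw [DenseRange, Scheme.range_fromSpecResidueField, dense_iff_closure_eq]; exact genericPoint_spec S⟩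
    exact ext_of_isDominant_of_isSeparated X.hom (h₁.trans h₂.symm) _ h
  let x₀ := x default
  have hx₀ : X.hom x₀ = genericPoint S := by
    rw [← Scheme.Hom.comp_apply, hx]
    exact Scheme.fromSpecResidueField_apply _ _
  let C : X.left.Opens := ⟨closure {x₀}, isClosed_closure_open X.hom hS x₀ hx₀⟩
  have hstalk : ∀ y : C, IsDomain ((C : Scheme.{u}).presheaf.stalk y) := fun y =>
    ((Groth.Agent.Et18.normal_stalk_iff_of_etale (C.ι ≫ X.hom) y).mpr (hS _)).1
  have : ∀ y : C, IsReduced ((C : Scheme.{u}).presheaf.stalk y) := fun y => by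
    have := hstalk y; infer_instance
  have : AlgebraicGeometry.IsReduced (C : Scheme.{u}) := isReduced_of_isReduced_stalk _
  have hgen : IsGenericPoint (⟨x₀, subset_closure rfl⟩ : C) Set.univ := by
    refine Set.eq_univ_of_forall fun w => ?_
    rw [closure_subtype, Set.image_singleton]
    exact w.2
  have : IrreducibleSpace (C : Scheme.{u}) := by
    have := hgen.isIrreducible
    rw [irreducibleSpace_def]
    exact this
  have : IsIntegral (C : Scheme.{u}) := isIntegral_of_irreducibleSpace_of_isReduced _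
  have hgp : genericPoint (C : Scheme.{u}) = ⟨x₀, subset_closure rfl⟩ :=
    (genericPoint_spec (C : Scheme.{u})).eq hgen
  let g := C.ι ≫ X.hom
  have hgη : g (genericPoint (C : Scheme.{u})) = genericPoint S := by
    rw [hgp]; exact hx₀
  have hr : Set.range x ⊆ Set.range C.ι := by
    rw [Scheme.Opens.range_ι]
    rintro _ ⟨w, rfl⟩
    rw [Subsingleton.elim w default]
    exact subset_closure rfl
  let x' : Spec (S.residueField (genericPoint S)) ⟶ C := IsOpenImmersion.lift C.ι x hr
  have hx' : x' ≫ C.ι = x := IsOpenImmersion.lift_fac _ _ _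
  have hxg : x' ≫ g = S.fromSpecResidueField (genericPoint S) := by
    rw [reassoc_of% hx', hx]
  have hbir : IsIso (g.stalkMap (genericPoint (C : Scheme.{u}))) := by
    have hC : x' (IsLocalRing.closedPoint _) = genericPoint (C : Scheme.{u}) := by
      rw [hgp]
      apply C.ι.isOpenEmbedding.injective
      show (x' ≫ C.ι) _ = x₀
      rw [hx']
      exact congrArg x (Subsingleton.elim _ _)
    rw [← hC]
    exact isIso_stalkMap_of_point g x' hxg hC
  have := Groth.Agent.FlatMorWeight.locallyQuasiFinite_of_etale g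
  have : IsLocalIso g :=
    Groth.Agent.H8Lim.isLocalIso_of_birational (fun y => (hS y).2) g hgη hbir
  have : IsOpenImmersion g := Groth.Agent.H8Lim.isOpenImmersion_of_isLocalIso g
  have : Surjective g := ⟨fun p => by
    obtain ⟨w, hw, hwp⟩ := exists_specializes_over s a ha x₀ hx₀ p
    exact ⟨⟨w, specializes_iff_mem_closure.mp hw⟩, hwp⟩⟩
  have : IsIso g := by
    have : Epi g.base := (TopCat.epi_iff_surjective _).mpr g.surjective
    exact IsOpenImmersion.isIso g
  refine ⟨inv g ≫ C.ι, by rw [Category.assoc]; exact IsIso.inv_hom_id g, ?_⟩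
  rw [← hx', ← hxg, Category.assoc, IsIso.hom_inv_id_assoc]

end NonAbLib
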