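import Groth.Agent.NonAb.Torsor

/-!
# The boundary of a global section of a quotient sheaf `G/F`
-/

universe w v u

open CategoryTheory Opposite

namespace NonAbLib

open NonAbH1

variable {C : Type u} [Category.{v} C] {J : GrothendieckTopology C}
  [J.HasSheafCompose (forget GrpCat.{w})] {F G : Sheaf J GrpCat.{w}} (u : F ⟶ G)
  {Q : GSheaf G} (π : GSheaf.trivial G ⟶ Q)

theorem pi_map {U V : Cᵒᵖ} (f : U ⟶ V) (g : G.obj.obj U) :
    π.hom.hom.app V (GSheaf.ofGrp (G.obj.map f g)) = Q.P.obj.map f (π.hom.hom.app U (GSheaf.ofGrp g)) :=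
  NatTrans.naturality_apply π.hom.hom f (GSheaf.ofGrp g)

theorem pi_mul {U : Cᵒᵖ} (g h : G.obj.obj U) :
    π.hom.hom.app U (GSheaf.ofGrp (g * h)) = Q.smul g (π.hom.hom.app U (GSheaf.ofGrp h)) :=
  π.map_smul g (GSheaf.ofGrp h)

theorem u_map {U V : Cᵒᵖ} (f : U ⟶ V) (x : F.obj.obj U) :
    u.hom.app V (F.obj.map f x) = G.obj.map f (u.hom.app U x) :=
  NatTrans.naturality_apply u.hom f x

theorem grp_ext {X : C} {S : Sieve X} (hS : S ∈ J X) {g h : G.obj.obj (op X)}
    (e : ∀ ⦃V : C⦄ (f : V ⟶ X), S f → G.obj.map f.op g = G.obj.map f.op h) : g = h :=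
  sheaf_ext (GSheaf.uSh G) hS e

variable {u} {π}

section Fibre

variable (hu : ∀ U : Cᵒᵖ, Function.Injective (u.hom.app U)) (hQ : GSheaf.IsQuotientBy u π)
  {c : Q.P.obj.sections}

/-- The subfunctor of liftings of a global section. -/
def liftings (c : Q.P.obj.sections) : Subfunctor (GSheaf.uSh G).obj where
  obj U := {g | π.hom.hom.app U g = c.1 U}
  map {U V} f g (hg : π.hom.hom.app U g = c.1 U) :=
    show π.hom.hom.app V ((GSheaf.uSh G).obj.map f g) = c.1 V from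
      (NatTrans.naturality_apply π.hom.hom f g).trans ((congrArg _ hg).trans (c.2 f))

variable (π) in
theorem isSheaf_liftings (c : Q.P.obj.sections) :
    Presheaf.IsSheaf J (liftings (π := π) c).toFunctor := by
  rw [isSheaf_iff_isSheaf_of_type]
  intro X S hS x hx
  obtain ⟨s, hs⟩ := exists_amalg (GSheaf.uSh G) hS (fun V f hf => (x f hf).1)
    (fun V W f g hf => by
      have h := (Presieve.compatible_iff_sieveCompatible x).mp hx f g hf
      exact (congrArg Subtype.val h).symm)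
  have hmem : π.hom.hom.app (op X) s = c.1 (op X) := by
    refine sheaf_ext Q.P hS fun V f hf => ?_
    exact (NatTrans.naturality_apply π.hom.hom f.op s).symm.trans
      ((congrArg _ (hs f hf)).trans ((x f hf).2.trans (c.2 f.op).symm))
  refine ⟨⟨s, hmem⟩, fun V f hf => Subtype.ext (hs f hf), fun t ht => Subtype.ext ?_⟩
  exact sheaf_ext (GSheaf.uSh G) hS fun V f hf =>
    (congrArg Subtype.val (ht f hf)).trans (hs f hf).symm

include hQ in
/-- The sheaf of liftings with its action of `F`. -/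
theorem exists_fibre (c : Q.P.obj.sections) :
    ∃ T : GSheaf F, GSheaf.IsFibreOver u π c T := by
  refine ⟨{ P := ⟨(liftings (π := π) c).toFunctor, isSheaf_liftings π c⟩
            smul := fun {U} f t => ⟨GSheaf.ofGrp (GSheaf.toGrp t.1 * (u.hom.app U f)⁻¹), ?_⟩
            one_smul := fun {U} t => Subtype.ext ?_
            mul_smul := fun {U} f f' t => Subtype.ext ?_
            map_smul := fun {U V} a f t => Subtype.ext ?_ },
    (⟨(liftings (π := π) c).ι⟩ : _ ⟶ GSheaf.uSh G), fun U a b h => Subtype.ext h,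
    fun U g => ⟨?_, fun h => ⟨⟨GSheaf.ofGrp g, h⟩, rfl⟩⟩,
    fun U f t => rfl⟩
  · have h : π.hom.hom.app U t.1 = c.1 U := t.2
    change π.hom.hom.app U (GSheaf.ofGrp (GSheaf.toGrp t.1 * (u.hom.app U f)⁻¹)) = c.1 U
    rw [← h]
    exact ((hQ.1 U _ _).mpr ⟨f⁻¹, by rw [map_inv]⟩).symm
  · change GSheaf.toGrp t.1 * (u.hom.app U 1)⁻¹ = GSheaf.toGrp t.1
    simp
  · change GSheaf.toGrp t.1 * (u.hom.app U (f * f'))⁻¹ =
      GSheaf.toGrp t.1 * (u.hom.app U f')⁻¹ * (u.hom.app U f)⁻¹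
    simp [mul_assoc]
  · change G.obj.map a (GSheaf.toGrp t.1 * (u.hom.app U f)⁻¹) =
      G.obj.map a (GSheaf.toGrp t.1) * (u.hom.app V (F.obj.map a f))⁻¹
    rw [map_mul, map_inv, u_map]
  · rintro ⟨t, ht⟩
    rw [← ht]; exact t.2

include hu hQ in
theorem isTorsor_of_isFibreOver {T : GSheaf F} (hT : GSheaf.IsFibreOver u π c T) :
    T.IsTorsor := by
  obtain ⟨ι, hinj, hmem, hsmul⟩ := hT
  refine ⟨fun U p q => ?_, fun X => ?_⟩
  · obtain ⟨f, hf⟩ := (hQ.1 U (GSheaf.toGrp (ι.hom.app U p)) (GSheaf.toGrp (ι.hom.app U q))).mp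
      (((hmem U _).mp ⟨p, rfl⟩).trans ((hmem U _).mp ⟨q, rfl⟩).symm)
    refine ⟨f⁻¹, hinj U ?_, fun g hg => ?_⟩
    · change GSheaf.toGrp (ι.hom.app U (T.smul f⁻¹ p)) = GSheaf.toGrp (ι.hom.app U q)
      rw [hsmul, map_inv, inv_inv]
      exact hf.symm
    · rw [← hg, hsmul] at hf
      apply hu U
      rw [map_inv]
      exact inv_injective ((mul_left_cancel hf).trans (inv_inv _).symm)
  · obtain ⟨S, hS, hS'⟩ := hQ.2 X (c.1 (op X))
    refine ⟨S, hS, fun V a ha => ?_⟩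
    obtain ⟨g, hg⟩ := hS' a ha
    obtain ⟨t, -⟩ := (hmem (op V) g).mpr (hg.trans (c.2 a.op))
    exact ⟨t⟩

include hu hQ in
/-- Two sheaves of liftings of sections in the same orbit are isomorphic. -/
theorem nonempty_iso_of_smul {c' : Q.P.obj.sections} {T T' : GSheaf F}
    (hT : GSheaf.IsFibreOver u π c T) (hT' : GSheaf.IsFibreOver u π c' T')
    (g : (GSheaf.uSh G).obj.sections)
    (hg : ∀ U, Q.smul (GSheaf.toGrp (g.1 U)) (c.1 U) = c'.1 U) : Nonempty (T ≅ T') := by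
  have h1 := isTorsor_of_isFibreOver hu hQ hT
  have h2 := isTorsor_of_isFibreOver hu hQ hT'
  obtain ⟨ι, hinj, hmem, hsmul⟩ := hT
  obtain ⟨ι', hinj', hmem', hsmul'⟩ := hT'
  have key : ∀ (U : Cᵒᵖ) (t : T.P.obj.obj U), ∃ t' : T'.P.obj.obj U,
      GSheaf.toGrp (ι'.hom.app U t') = GSheaf.toGrp (g.1 U) * GSheaf.toGrp (ι.hom.app U t) :=
    fun U t => (hmem' U _).mpr (by rw [pi_mul, (hmem U _).mp ⟨t, rfl⟩, hg])
  choose φ hφ using key
  obtain ⟨f, -⟩ := exists_hom (P := T) (Q := T') φ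
    (fun U V a t => hinj' V (by
      change GSheaf.toGrp (ι'.hom.app V _) = GSheaf.toGrp (ι'.hom.app V _)
      rw [hφ, NatTrans.naturality_apply ι'.hom a, NatTrans.naturality_apply ι.hom a, ← g.2 a]
      change G.obj.map a (GSheaf.toGrp (g.1 U)) * G.obj.map a (GSheaf.toGrp (ι.hom.app U t)) =
        G.obj.map a (GSheaf.toGrp (ι'.hom.app U (φ U t)))
      rw [hφ, map_mul]))
    (fun U x t => hinj' U (by
      change GSheaf.toGrp (ι'.hom.app U _) = GSheaf.toGrp (ι'.hom.app U _)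
      rw [hφ, hsmul, hsmul', hφ, mul_assoc]))
  exact nonempty_iso_of_hom h1 h2.1 f

include hu hQ in
theorem nonempty_iso_of_isFibreOver {T T' : GSheaf F}
    (hT : GSheaf.IsFibreOver u π c T) (hT' : GSheaf.IsFibreOver u π c T') : Nonempty (T ≅ T') :=
  nonempty_iso_of_smul hu hQ hT hT'
    ⟨fun U => GSheaf.ofGrp (1 : G.obj.obj U), fun f => map_one (G.obj.map f).hom⟩
    (fun U => Q.one_smul _)

/-- Isomorphic sheaves of liftings come from sections in the same orbit. -/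
theorem exists_smul_of_iso {c' : Q.P.obj.sections} {T T' : GSheaf F}
    (hne : T.LocallyNonempty) (hps : T.IsPseudoTorsor)
    (hT : GSheaf.IsFibreOver u π c T) (hT' : GSheaf.IsFibreOver u π c' T') (e : T ≅ T') :
    ∃ g : (GSheaf.uSh G).obj.sections,
      ∀ U, Q.smul (GSheaf.toGrp (g.1 U)) (c.1 U) = c'.1 U := by
  obtain ⟨ι, hinj, hmem, hsmul⟩ := hT
  obtain ⟨ι', hinj', hmem', hsmul'⟩ := hT'
  let val : ∀ U, T.P.obj.obj U → G.obj.obj U := fun U t =>
    GSheaf.toGrp (ι'.hom.app U (e.hom.hom.hom.app U t)) * (GSheaf.toGrp (ι.hom.app U t))⁻¹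
  have hinv : ∀ U (t t' : T.P.obj.obj U), val U t = val U t' := fun U t t' => by
    obtain ⟨f, rfl, -⟩ := hps U t t'
    simp only [val]
    rw [e.hom.map_smul, hsmul, hsmul']
    simp [mul_assoc]
  have hnat : ∀ {U V : Cᵒᵖ} (a : U ⟶ V) t, val V (T.P.obj.map a t) = G.obj.map a (val U t) :=
    fun {U V} a t => by
      simp only [val]
      rw [NatTrans.naturality_apply e.hom.hom.hom a, NatTrans.naturality_apply ι'.hom a,
        NatTrans.naturality_apply ι.hom a, map_mul, map_inv]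
      rfl
  obtain ⟨g, hg⟩ := exists_sections (GSheaf.uSh G)
    (fun V y => ∃ t, GSheaf.toGrp y = val (op V) t)
    (fun V W a y ⟨t, ht⟩ => ⟨T.P.obj.map a.op t, by rw [hnat, ← ht]; rfl⟩)
    (fun V y y' ⟨t, ht⟩ ⟨t', ht'⟩ => ht.trans ((hinv _ t t').trans ht'.symm))
    (fun U => by
      obtain ⟨S, hS, hS'⟩ := hne U
      exact ⟨S, hS, fun V a ha => (hS' a ha).elim fun t => ⟨GSheaf.ofGrp (val _ t), t, rfl⟩⟩)
  refine ⟨g, fun U => ?_⟩
  obtain ⟨X⟩ := U
  obtain ⟨S, hS, hS'⟩ := hne X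
  refine sheaf_ext Q.P hS fun V a ha => ?_
  obtain ⟨t⟩ := hS' a ha
  have e1 : G.obj.map a.op (GSheaf.toGrp (g.1 (op X))) = val (op V) t :=
    (g.2 a.op).trans (hg V (GSheaf.ofGrp (val (op V) t)) ⟨t, rfl⟩)
  rw [Q.map_smul, e1, c.2 a.op, c'.2 a.op, ← (hmem (op V) _).mp ⟨t, rfl⟩, ← pi_mul,
    ← (hmem' (op V) _).mp ⟨e.hom.hom.hom.app (op V) t, rfl⟩]
  simp only [val, inv_mul_cancel_right]

/-- The fibre has a global section iff the section lifts. -/
theorem hasSection_iff_exists_lift {T : GSheaf F} (hT : GSheaf.IsFibreOver u π c T) :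
    T.HasSection ↔ ∃ g : (GSheaf.uSh G).obj.sections, ∀ U, π.hom.hom.app U (g.1 U) = c.1 U := by
  obtain ⟨ι, hinj, hmem, -⟩ := hT
  constructor
  · rintro ⟨s, hs⟩
    exact ⟨⟨fun U => ι.hom.app U (s U), fun {U V} f => by
      rw [← NatTrans.naturality_apply ι.hom f, hs f]⟩, fun U => (hmem U _).mp ⟨s U, rfl⟩⟩
  · rintro ⟨g, hg⟩
    choose t ht using fun U => (hmem U (GSheaf.toGrp (g.1 U))).mpr (hg U)
    refine ⟨t, fun {U V} f => hinj V ?_⟩
    rw [NatTrans.naturality_apply ι.hom f]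
    exact ((congrArg (fun z => (GSheaf.uSh G).obj.map f z) (ht U)).trans (g.2 f)).trans (ht V).symm

include hu hQ in
/-- A torsor whose image in `G` is trivial is a boundary, and conversely. -/
theorem isPushforwardAlong_trivial_iff (T : Torsor F) :
    GSheaf.IsPushforwardAlong u T.toGSheaf (GSheaf.trivial G) ↔
      ∃ c : Q.P.obj.sections, GSheaf.IsFibreOver u π c T.toGSheaf := by
  constructor
  · rintro ⟨f, hf⟩
    let val : ∀ U, T.P.obj.obj U → G.obj.obj U := fun U t => (GSheaf.toGrp (f.hom.app U t))⁻¹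
    have hsm : ∀ U x t, val U (T.smul x t) = val U t * (u.hom.app U x)⁻¹ := fun U x t => by
      simp only [val]
      rw [hf U x t]
      exact mul_inv_rev _ _
    have hnat : ∀ {U V : Cᵒᵖ} (a : U ⟶ V) t, val V (T.P.obj.map a t) = G.obj.map a (val U t) :=
      fun {U V} a t => by
        simp only [val]
        rw [NatTrans.naturality_apply f.hom a, map_inv]
        rfl
    have hinj : ∀ U, Function.Injective (val U) := fun U t t' h => by
      obtain ⟨x, rfl, -⟩ := T.isTorsor.1 U t t'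
      rw [hsm, eq_comm, mul_eq_left, inv_eq_one] at h
      rw [hu U (h.trans (map_one (u.hom.app U).hom).symm), T.one_smul]
    have hconst : ∀ U (t t' : T.P.obj.obj U), π.hom.hom.app U (GSheaf.ofGrp (val U t)) =
        π.hom.hom.app U (GSheaf.ofGrp (val U t')) := fun U t t' => by
      obtain ⟨x, rfl, -⟩ := T.isTorsor.1 U t t'
      exact (hQ.1 U _ _).mpr ⟨x⁻¹, by rw [map_inv, hsm]⟩
    obtain ⟨c, hc⟩ := exists_sections Q.P
      (fun V y => ∃ t, π.hom.hom.app (op V) (GSheaf.ofGrp (val (op V) t)) = y)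
      (fun V W a y ⟨t, ht⟩ => ⟨T.P.obj.map a.op t, by rw [hnat, pi_map, ht]⟩)
      (fun V y y' ⟨t, ht⟩ ⟨t', ht'⟩ => by rw [← ht, ← ht']; exact hconst _ t t')
      (fun U => by
        obtain ⟨S, hS, hS'⟩ := T.isTorsor.2 U
        exact ⟨S, hS, fun V a ha => (hS' a ha).elim fun t => ⟨_, t, rfl⟩⟩)
    let ι : T.P ⟶ GSheaf.uSh G :=
      ⟨{ app := fun U => ↾(fun t => GSheaf.ofGrp (val U t))
         naturality := fun U V a => by ext t; exact hnat a t }⟩
    refine ⟨c, ι, fun U => hinj U, fun U g => ?_, fun U x t => hsm U x t⟩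
    obtain ⟨X⟩ := U
    constructor
    · rintro ⟨t, rfl⟩
      exact (hc X _ ⟨t, rfl⟩).symm
    · intro hg
      obtain ⟨S, hS, hS'⟩ := T.isTorsor.2 X
      obtain ⟨t, ht⟩ := exists_glue T.P hS (fun V a y => val (op V) y = G.obj.map a.op g)
        (fun V W a b y _ h => by
          rw [hnat, h, op_comp, G.obj.map_comp]
          rfl)
        (fun V a y y' _ h h' => hinj _ (h.trans h'.symm))
        (fun V a ha => by
          obtain ⟨p⟩ := hS' a ha
          have hp : π.hom.hom.app (op V) (GSheaf.ofGrp (val (op V) p)) =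
              π.hom.hom.app (op V) (GSheaf.ofGrp (G.obj.map a.op g)) := by
            rw [pi_map, hg, c.2 a.op, ← hc V _ ⟨p, rfl⟩]
          obtain ⟨x, hx⟩ := (hQ.1 _ _ _).mp hp
          exact ⟨T.smul x⁻¹ p, by rw [hsm, map_inv, inv_inv, hx]⟩)
      refine ⟨t, grp_ext hS fun V a ha => ?_⟩
      rw [← ht a ha, hnat]
      rfl
  · rintro ⟨c, ι, -, -, hsmul⟩
    refine ⟨⟨{ app := fun U => ↾(fun t => GSheaf.ofGrp (GSheaf.toGrp (ι.hom.app U t))⁻¹)
               naturality := fun U V a => by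
                 ext t
                 change (GSheaf.toGrp (ι.hom.app V (T.P.obj.map a t)))⁻¹ =
                   G.obj.map a (GSheaf.toGrp (ι.hom.app U t))⁻¹
                 rw [NatTrans.naturality_apply ι.hom a, map_inv]
                 rfl }⟩, fun U x t => ?_⟩
    change (GSheaf.toGrp (ι.hom.app U (T.smul x t)))⁻¹ =
      u.hom.app U x * (GSheaf.toGrp (ι.hom.app U t))⁻¹
    rw [hsmul, mul_inv_rev, inv_inv]

end Fibre

end NonAbLib
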