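import Groth.Agent.NonAb.Torsor
import Mathlib.CategoryTheory.Sites.CoversTop.Basic

/-!
# Čech classes of torsors: well-definedness, injectivity, surjectivity
-/

universe w w' v u

open CategoryTheory Opposite

namespace NonAbLib

open NonAbH1

variable {C : Type u} [Category.{v} C] {J : GrothendieckTopology C} {G : Sheaf J GrpCat.{w}}
  {I : Type w'} {U : I → C}

theorem gmap_map {V W X : C} (f : V ⟶ X) (g : W ⟶ V) (x : G.obj.obj (op X)) :
    G.obj.map g.op (G.obj.map f.op x) = G.obj.map (g ≫ f).op x := by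
  simp

theorem class_eq_iff (γ γ' : PresheafOfGroups.OneCocycle G.obj U) :
    γ.class = γ'.class ↔ γ.IsCohomologous γ' :=
  ⟨fun h => ((PresheafOfGroups.OneCocycle.equivalence_isCohomologous G.obj U).eqvGen_iff).mp
    (Quot.eqvGen_exact h), fun h => Quot.sound h⟩

/-- A pseudo-torsor with sections over the family has exactly one Čech class. -/
theorem existsUnique_class {P : GSheaf G} (hP : P.IsPseudoTorsor) (hU : P.TrivialisedBy U) :
    ∃! c : PresheafOfGroups.H1 G.obj U, P.HasCechClass U c := by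
  let s : ∀ i, P.P.obj.obj (op (U i)) := fun i => (hU i).some
  let γ : PresheafOfGroups.OneCocycle G.obj U :=
    { ev := fun i j T a b => diff hP (P.P.obj.map b.op (s j)) (P.P.obj.map a.op (s i))
      ev_precomp := fun i j T T' φ a b => by
        rw [← diff_map hP φ.op, map_map, map_map]
      ev_trans := fun i j k T a b c => diff_trans hP _ _ _ }
  have hγ : P.IsCocycleOf U s γ := fun i j T a b => diff_smul hP _ _
  refine ⟨γ.class, ⟨s, γ, hγ, rfl⟩, ?_⟩
  rintro c ⟨s', γ', hγ', rfl⟩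
  refine Quot.sound ⟨fun i => diff hP (s' i) (s i), fun i j T a b => smul_right_cancel hP
    (p := P.P.obj.map b.op (s' j)) ?_⟩
  rw [P.mul_smul, P.mul_smul, hγ' i j a b, ← P.map_smul, ← P.map_smul, diff_smul, diff_smul,
    hγ i j a b]

/-- Torsors with a common Čech class on a family covering the site are isomorphic. -/
theorem nonempty_iso_of_class (hU : J.CoversTop U) {P Q : GSheaf G} (hP : P.IsTorsor)
    (hQ : Q.IsPseudoTorsor) {c : PresheafOfGroups.H1 G.obj U} (hPc : P.HasCechClass U c)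
    (hQc : Q.HasCechClass U c) : Nonempty (P ≅ Q) := by
  obtain ⟨s, γ, hs, rfl⟩ := hPc
  obtain ⟨t, γ', ht, hc⟩ := hQc
  obtain ⟨α, hα⟩ := (class_eq_iff γ γ').mp hc.symm
  let t' : ∀ i, Q.P.obj.obj (op (U i)) := fun i => Q.smul (α i)⁻¹ (t i)
  have ht' : ∀ i j ⦃T : C⦄ (a : T ⟶ U i) (b : T ⟶ U j),
      Q.smul (γ.ev i j a b) (Q.P.obj.map b.op (t' j)) = Q.P.obj.map a.op (t' i) := fun i j T a b => by
    simp only [t', Q.map_smul, map_inv]
    rw [← ht i j a b, ← Q.mul_smul, ← Q.mul_smul]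
    congr 1
    rw [mul_inv_eq_iff_eq_mul, mul_assoc, ← hα i j a b, inv_mul_cancel_left]
  have key : ∀ (W : C) (p : P.P.obj.obj (op W)), ∃ q : Q.P.obj.obj (op W),
      ∀ i ⦃V : C⦄ (e : V ⟶ W) (a : V ⟶ U i), Q.P.obj.map e.op q =
        Q.smul (diff hP.1 (P.P.obj.map a.op (s i)) (P.P.obj.map e.op p))
          (Q.P.obj.map a.op (t' i)) := by
    intro W p
    refine Exists.imp (fun q hq i V e a => hq e ⟨i, ⟨a⟩⟩ i a)
      (exists_glue Q.P (hU W) (fun V e y => ∀ i (a : V ⟶ U i), y =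
        Q.smul (diff hP.1 (P.P.obj.map a.op (s i)) (P.P.obj.map e.op p))
          (Q.P.obj.map a.op (t' i))) ?_ ?_ ?_)
    · intro V V' e g y he h i a
      obtain ⟨i₀, ⟨a₀⟩⟩ := he
      rw [h i₀ a₀, Q.map_smul, ← diff_map hP.1, map_map, map_map, map_map, ← ht' i i₀ a (g ≫ a₀),
        ← Q.mul_smul]
      congr 1
      exact (diff_eq hP.1 (by rw [P.mul_smul, hs i i₀ a (g ≫ a₀), diff_smul]))
    · intro V e y y' he h h'
      obtain ⟨i, ⟨a⟩⟩ := he
      exact (h i a).trans (h' i a).symm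
    · intro V e he
      obtain ⟨i₀, ⟨a₀⟩⟩ := he
      refine ⟨Q.smul (diff hP.1 (P.P.obj.map a₀.op (s i₀)) (P.P.obj.map e.op p))
        (Q.P.obj.map a₀.op (t' i₀)), fun i a => ?_⟩
      rw [← ht' i i₀ a a₀, ← Q.mul_smul]
      congr 1
      exact (diff_eq hP.1 (by rw [P.mul_smul, hs i i₀ a a₀, diff_smul]))
  choose φ hφ using key
  obtain ⟨f, -⟩ := exists_hom (P := P) (Q := Q) (fun W => φ W.unop)
    (fun W W' g p => by
      obtain ⟨g, rfl⟩ : ∃ g' : W'.unop ⟶ W.unop, g'.op = g := ⟨g.unop, rfl⟩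
      refine sheaf_ext Q.P (hU W'.unop) fun V e he => ?_
      obtain ⟨i, ⟨a⟩⟩ := he
      rw [map_map Q.P g e, hφ _ _ i e a, hφ _ _ i (e ≫ g) a, map_map P.P g e])
    (fun W g p => by
      refine sheaf_ext Q.P (hU W.unop) fun V e he => ?_
      obtain ⟨i, ⟨a⟩⟩ := he
      rw [Q.map_smul, hφ _ _ i e a, hφ _ _ i e a, P.map_smul, diff_smul_right, Q.mul_smul])
  exact nonempty_iso_of_hom hP hQ f

section Twist

variable (γ : PresheafOfGroups.OneCocycle G.obj U)

/-- Sections of the sheaf of sets obtained by twisting `G` by a cocycle. -/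
def Tw (W : C) : Type _ :=
  {x : ∀ (i : I) ⦃T : C⦄, (T ⟶ W) → (T ⟶ U i) → G.obj.obj (op T) //
    (∀ (i : I) ⦃T T' : C⦄ (h : T ⟶ T') (e : T' ⟶ W) (a : T' ⟶ U i),
      G.obj.map h.op (x i e a) = x i (h ≫ e) (h ≫ a)) ∧
    ∀ (i j : I) ⦃T : C⦄ (e : T ⟶ W) (a : T ⟶ U i) (b : T ⟶ U j),
      x i e a * γ.ev i j a b = x j e b}

variable {γ}

/-- Restriction. -/
def Tw.res {W W' : C} (f : W' ⟶ W) (x : Tw γ W) : Tw γ W' :=
  ⟨fun i T e a => x.1 i (e ≫ f) a,
    fun i T T' h e a => (x.2.1 i h (e ≫ f) a).trans (by simp only [Category.assoc]),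
    fun i j T e a b => x.2.2 i j (e ≫ f) a b⟩

/-- Translation. -/
def Tw.mul {W : C} (g : G.obj.obj (op W)) (x : Tw γ W) : Tw γ W :=
  ⟨fun i T e a => G.obj.map e.op g * x.1 i e a,
    fun i T T' h e a => by rw [map_mul, x.2.1, gmap_map],
    fun i j T e a b => by rw [mul_assoc, x.2.2]⟩

theorem Tw.exists_mul_eq (hU : J.CoversTop U) {W : C} (x₀ x : Tw γ W) :
    ∃ g : G.obj.obj (op W), Tw.mul g x₀ = x := by
  obtain ⟨g, hg⟩ := exists_glue ((sheafCompose J (forget GrpCat.{w})).obj G) (hU W)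
    (fun V e (y : G.obj.obj (op V)) => ∀ i (a : V ⟶ U i), x.1 i e a = y * x₀.1 i e a)
    (fun V V' e g y he h i a => by
      obtain ⟨i₀, ⟨a₀⟩⟩ := he
      change x.1 i (g ≫ e) a = G.obj.map g.op y * x₀.1 i (g ≫ e) a
      rw [← x.2.2 i₀ i (g ≫ e) (g ≫ a₀) a, ← x₀.2.2 i₀ i (g ≫ e) (g ≫ a₀) a, ← x.2.1, ← x₀.2.1,
        h i₀ a₀, map_mul, mul_assoc])
    (fun V e y y' he h h' => by
      obtain ⟨i, ⟨a⟩⟩ := he
      exact mul_right_cancel (G := G.obj.obj (op V)) ((h i a).symm.trans (h' i a)))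
    (fun V e he => by
      obtain ⟨i₀, ⟨a₀⟩⟩ := he
      refine ⟨x.1 i₀ e a₀ * (x₀.1 i₀ e a₀)⁻¹, fun i a => ?_⟩
      rw [← x.2.2 i₀ i e a₀ a, ← x₀.2.2 i₀ i e a₀ a, ← mul_assoc, inv_mul_cancel_right])
  exact ⟨g, Subtype.ext (funext fun i => funext fun T => funext fun e => funext fun a =>
    (hg e ⟨i, ⟨a⟩⟩ i a).symm)⟩

theorem Tw.mul_injective (hU : J.CoversTop U) {W : C} (x : Tw γ W) {g g' : G.obj.obj (op W)}
    (h : Tw.mul g x = Tw.mul g' x) : g = g' := by
  refine sheaf_ext ((sheafCompose J (forget GrpCat.{w})).obj G) (hU W) fun V e he => ?_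
  obtain ⟨i, ⟨a⟩⟩ := he
  exact mul_right_cancel (G := G.obj.obj (op V)) (congrFun (congrFun (congrFun (congrFun (congrArg Subtype.val h) i) V) e) a)

theorem Tw.small (hU : J.CoversTop U) (W : C) : Small.{w} (Tw γ W) := by
  by_cases h : Nonempty (Tw γ W)
  · exact small_of_surjective (f := fun g : G.obj.obj (op W) => Tw.mul g h.some)
      (fun x => Tw.exists_mul_eq hU h.some x)
  · have := not_nonempty_iff.mp h
    exact small_of_injective (f := fun x : Tw γ W => (isEmptyElim x : PUnit.{w + 1}))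
      (fun x => isEmptyElim x)

theorem Tw.amalg (hU : J.CoversTop U) {W : C} {S : Sieve W} (hS : S ∈ J W)
    (y : ∀ ⦃V : C⦄ (f : V ⟶ W), S f → Tw γ V)
    (hy : ∀ ⦃V V' : C⦄ (f : V ⟶ W) (g : V' ⟶ V) (hf : S f),
      (y f hf).res g = y (g ≫ f) (S.downward_closed hf g)) :
    ∃! x : Tw γ W, ∀ ⦃V : C⦄ (f : V ⟶ W) (hf : S f), x.res f = y f hf := by
  let GS := (sheafCompose J (forget GrpCat.{w})).obj G
  let R : ∀ (i : I) ⦃T : C⦄ (e : T ⟶ W) (a : T ⟶ U i) ⦃V : C⦄ (k : V ⟶ T) (z : G.obj.obj (op V)),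
      Prop := fun i T e a V k z => ∀ hk : S (k ≫ e), z = (y (k ≫ e) hk).1 i (𝟙 V) (k ≫ a)
  have key : ∀ (i : I) ⦃T : C⦄ (e : T ⟶ W) (a : T ⟶ U i), ∃ z : G.obj.obj (op T),
      ∀ ⦃V : C⦄ (k : V ⟶ T), S (k ≫ e) → R i e a k (G.obj.map k.op z) := by
    intro i T e a
    exact exists_glue GS (J.pullback_stable e hS) (R i e a)
      (fun V V' k l z hk h hk' => by
        have h2 := congrArg (fun q => q.1 i (𝟙 V') (l ≫ k ≫ a)) (hy (k ≫ e) l hk)
        change G.obj.map l.op z = _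
        rw [h hk, (y _ hk).2.1, Category.comp_id]
        simp only [Category.assoc] at h2 ⊢
        refine Eq.trans ?_ h2
        change _ = (y (k ≫ e) hk).1 i (𝟙 V' ≫ l) (l ≫ k ≫ a)
        rw [Category.id_comp])
      (fun V k z z' hk h h' => (h hk).trans (h' hk).symm)
      (fun V k hk => ⟨(y (k ≫ e) hk).1 i (𝟙 V) (k ≫ a), fun hk' => rfl⟩)
  choose x hx using key
  have hnat : ∀ (i : I) ⦃T T' : C⦄ (h : T ⟶ T') (e : T' ⟶ W) (a : T' ⟶ U i),
      G.obj.map h.op (x i e a) = x i (h ≫ e) (h ≫ a) := by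
    intro i T T' h e a
    refine sheaf_ext GS (J.pullback_stable (h ≫ e) hS) fun V k hk => ?_
    change G.obj.map k.op (G.obj.map h.op (x i e a)) = G.obj.map k.op (x i (h ≫ e) (h ≫ a))
    have hk' : S ((k ≫ h) ≫ e) := by rw [Category.assoc]; exact hk
    rw [gmap_map, hx i e a (k ≫ h) hk' hk', hx i (h ≫ e) (h ≫ a) k hk hk]
    simp only [Category.assoc]
  have hcoc : ∀ (i j : I) ⦃T : C⦄ (e : T ⟶ W) (a : T ⟶ U i) (b : T ⟶ U j),
      x i e a * γ.ev i j a b = x j e b := by
    intro i j T e a b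
    refine sheaf_ext GS (J.pullback_stable e hS) fun V k hk => ?_
    change G.obj.map k.op (x i e a * γ.ev i j a b) = G.obj.map k.op (x j e b)
    rw [map_mul, hx i e a k hk hk, hx j e b k hk hk, γ.ev_precomp]
    exact (y _ hk).2.2 i j _ _ _
  refine ⟨⟨x, hnat, hcoc⟩, fun V f hf => Subtype.ext (funext fun i => funext fun T => funext fun e =>
    funext fun a => ?_), fun x' hx' => Subtype.ext (funext fun i => funext fun T => funext fun e =>
    funext fun a => ?_)⟩
  · refine sheaf_ext GS (J.top_mem T) fun V' k _ => ?_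
    change G.obj.map k.op (x i (e ≫ f) a) = G.obj.map k.op ((y f hf).1 i e a)
    have hk : S (k ≫ e ≫ f) := by
      rw [← Category.assoc]; exact S.downward_closed hf _
    have h2 := congrArg (fun q => q.1 i (𝟙 V') (k ≫ a)) (hy f (k ≫ e) hf)
    rw [hx i (e ≫ f) a k hk hk, (y f hf).2.1]
    simp only [Category.assoc] at h2 ⊢
    refine Eq.trans h2.symm ?_
    change (y f hf).1 i (𝟙 V' ≫ k ≫ e) (k ≫ a) = _
    rw [Category.id_comp]
  · refine sheaf_ext GS (J.pullback_stable e hS) fun V k hk => ?_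
    change G.obj.map k.op (x'.1 i e a) = G.obj.map k.op (x i e a)
    rw [hx i e a k hk hk, ← hx' (k ≫ e) hk, x'.2.1]
    change _ = x'.1 i (𝟙 V ≫ k ≫ e) (k ≫ a)
    rw [Category.id_comp]

/-- Every cocycle on a family covering the site is the cocycle of a torsor. -/
theorem exists_torsor_of_cocycle (hU : J.CoversTop U) (γ : PresheafOfGroups.OneCocycle G.obj U) :
    ∃ P : Torsor G, P.TrivialisedBy U ∧ P.HasCechClass U γ.class := by
  have hsm : ∀ W, Small.{w} (Tw γ W) := Tw.small hU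
  let e : ∀ W, Tw γ W ≃ Shrink.{w} (Tw γ W) := fun W => equivShrink _
  let P0 : Cᵒᵖ ⥤ Type w :=
    { obj := fun W => Shrink.{w} (Tw γ W.unop)
      map := fun {W W'} f => ↾(fun x => e _ (((e _).symm x).res f.unop))
      map_id := fun W => by
        refine ConcreteCategory.hom_ext _ _ fun x => ?_
        show e _ (((e _).symm x).res (𝟙 W).unop) = x
        refine Eq.trans (congrArg (e W.unop) ?_) ((e W.unop).apply_symm_apply x)
        exact Subtype.ext (funext fun i => funext fun T => funext fun g => funext fun a => by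
          simp [Tw.res])
      map_comp := fun {W W' W''} f g => by
        refine ConcreteCategory.hom_ext _ _ fun x => ?_
        show e _ (((e _).symm x).res (f ≫ g).unop) =
          e _ (((e _).symm (e _ (((e _).symm x).res f.unop))).res g.unop)
        rw [Equiv.symm_apply_apply]
        refine congrArg (e W''.unop) ?_
        exact Subtype.ext (funext fun i => funext fun T => funext fun g' => funext fun a => by
          simp [Tw.res]) }
  have hP0 : Presheaf.IsSheaf J P0 := by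
    rw [isSheaf_iff_isSheaf_of_type]
    intro W S hS x hx
    have hc : ∀ ⦃V V' : C⦄ (f : V ⟶ W) (g : V' ⟶ V) (hf : S f),
        ((e _).symm (x f hf)).res g = (e _).symm (x (g ≫ f) (S.downward_closed hf g)) := by
      intro V V' f g hf
      rw [(Presieve.compatible_iff_sieveCompatible x).mp hx f g hf]
      simp [P0]
    obtain ⟨z, hz, hz'⟩ := Tw.amalg hU hS (fun V f hf => (e _).symm (x f hf)) hc
    refine ⟨e _ z, fun V f hf => ?_, fun t ht => (e _).symm.injective ?_⟩
    · show P0.map f.op (e _ z) = x f hf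
      apply (e _).symm.injective
      simp [P0, hz f hf]
    · rw [Equiv.symm_apply_apply]
      exact hz' _ fun V f hf => by
        rw [← ht f hf]
        simp [P0]
  let P : GSheaf G :=
    { P := ⟨P0, hP0⟩
      smul := fun {W} g x => e _ (((e _).symm x).mul g)
      one_smul := fun {W} x => by
        apply (e _).symm.injective
        simp [Tw.mul]
      mul_smul := fun {W} g h x => by
        apply (e _).symm.injective
        simp [Tw.mul, mul_assoc]
      map_smul := fun {W W'} f g x => by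
        show P0.map f _ = e _ _
        apply (e _).symm.injective
        simp [P0, Tw.mul, Tw.res] }
  let s0 : ∀ i, Tw γ (U i) := fun i =>
    ⟨fun j T g a => γ.ev i j g a, fun j T T' h g a => γ.ev_precomp i j h g a,
      fun j k T g a b => γ.ev_trans i j k g a b⟩
  have hP : P.IsTorsor := by
    refine ⟨fun W p q => ?_, fun W => ⟨_, hU W, fun V f hf => ?_⟩⟩
    · obtain ⟨g, hg⟩ := Tw.exists_mul_eq hU ((e _).symm p) ((e _).symm q)
      refine ⟨g, ?_, fun g' hg' => Tw.mul_injective hU ((e _).symm p) ?_⟩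
      · show e _ (((e _).symm p).mul g) = q
        rw [hg, Equiv.apply_symm_apply]
      · rw [hg, ← hg']
        exact ((e _).symm_apply_apply _).symm
    · obtain ⟨i, ⟨a⟩⟩ := hf
      exact ⟨e _ ((s0 i).res a)⟩
  refine ⟨⟨P, hP⟩, fun i => ⟨e _ (s0 i)⟩, fun i => e _ (s0 i), γ, fun i j T a b => ?_, rfl⟩
  show e _ _ = P0.map a.op (e _ (s0 i))
  apply (e _).symm.injective
  simp only [P, P0, TypeCat.Fun.coe_mk, ConcreteCategory.hom_ofHom, Equiv.symm_apply_apply]
  refine Subtype.ext (funext fun k => funext fun T' => funext fun g => funext fun c => ?_)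
  show G.obj.map g.op (γ.ev i j a b) * γ.ev j k (g ≫ b) c = γ.ev i k (g ≫ a) c
  rw [γ.ev_precomp, γ.ev_trans]

end Twist

end NonAbLib
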