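import Groth.Prelude.Def_EtBase

/-!
# Covering sieves of the small étale site, pointwise
-/

universe u

open CategoryTheory AlgebraicGeometry

set_option backward.isDefEq.respectTransparency.types false

namespace NonAbLib

variable {X : Scheme.{u}}

theorem exists_mem_of_mem_smallEtale {U : X.Etale} {S : Sieve U}
    (hS : S ∈ X.smallEtaleTopology U) (t : U.left) :
    ∃ (V : X.Etale) (g : V ⟶ U) (v : V.left), S g ∧ g.left v = t := by
  obtain ⟨α, T, f, rfl⟩ := S.exists_eq_ofArrows
  rw [Scheme.ofArrows_mem_smallEtaleTopology_iff] at hS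
  obtain ⟨i, v, hv⟩ := Set.mem_iUnion.mp (hS ▸ Set.mem_univ t)
  exact ⟨T i, f i, v, ⟨T i, 𝟙 _, f i, ⟨i⟩, Category.id_comp _⟩, hv⟩

theorem mem_smallEtale_of_forall {U : X.Etale} {S : Sieve U}
    (h : ∀ t : U.left, ∃ (V : X.Etale) (g : V ⟶ U) (v : V.left), S g ∧ g.left v = t) :
    S ∈ X.smallEtaleTopology U := by
  choose V g v hg hv using h
  refine X.smallEtaleTopology.superset_covering (S := Sieve.ofArrows _ g) ?_ ?_
  · rw [Sieve.generate_le_iff, Presieve.ofArrows_le_iff]
    exact hg
  · rw [Scheme.ofArrows_mem_smallEtaleTopology_iff]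
    exact Set.eq_univ_of_forall fun t => Set.mem_iUnion.mpr ⟨t, v t, hv t⟩

/-- Over every étale scheme the maps factoring through a jointly surjective family cover. -/
theorem ofObjects_mem_of_covers {ι : Type u} {V : ι → X.Etale} (hV : EtCoh.Covers V) (U : X.Etale) :
    Sieve.ofObjects V U ∈ X.smallEtaleTopology U := by
  have key : Sieve.ofObjects V (EtCoh.top X) ∈ X.smallEtaleTopology (EtCoh.top X) := by
    refine mem_smallEtale_of_forall fun t => ?_
    obtain ⟨i, y, hy⟩ := hV t
    exact ⟨V i, MorphismProperty.Over.homMk (V i).hom (Category.comp_id _) trivial, y,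
      ⟨i, ⟨𝟙 _⟩⟩, hy⟩
  have toTop : U ⟶ EtCoh.top X := MorphismProperty.Over.homMk U.hom (Category.comp_id _) trivial
  refine X.smallEtaleTopology.superset_covering ?_ (X.smallEtaleTopology.pullback_stable toTop key)
  rintro W g ⟨i, ⟨a⟩⟩
  exact ⟨i, ⟨a⟩⟩

end NonAbLib
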