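import Groth.Agent.NonAb.Infinitesimal
import Groth.Agent.AlgSpLib.FppfLocal
import Groth.Prelude.Def_ActBC

/-!
# Fibre products of pointed torsors under finite groups are surjective onto a connected base
-/

set_option backward.isDefEq.respectTransparency.types false

universe u

open CategoryTheory Limits MonoidalCategory CartesianMonoidalCategory MonObj GrpObj AlgebraicGeometry

namespace NonAbLib

variable {k : Type u} [Field k] {X : Scheme.{u}} (s : X ⟶ Spec (CommRingCat.of k))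

theorem range_pullback_map_left {A B : Over (Spec (CommRingCat.of k))} (f : A ⟶ B) :
    Set.range ((Over.pullback s).map f).left = pullback.fst B.hom s ⁻¹' Set.range f.left := by
  have sq : IsPullback ((Over.pullback s).map f).left (pullback.fst A.hom s) (pullback.fst B.hom s)
      f.left := by
    refine IsPullback.of_right ?_ ?_ (IsPullback.of_hasPullback B.hom s).flip
    · have h2 : ((Over.pullback s).map f).left ≫ pullback.snd B.hom s = pullback.snd A.hom s :=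
        Over.w ((Over.pullback s).map f)
      rw [h2, Over.w f]
      exact (IsPullback.of_hasPullback A.hom s).flip
    · simp only [Over.pullback_map_left]
      exact pullback.lift_fst _ _ _
  ext z
  constructor
  · rintro ⟨w, rfl⟩
    exact ⟨pullback.fst A.hom s w, by
      rw [← Scheme.Hom.comp_apply, ← Scheme.Hom.comp_apply, sq.w]⟩
  · rintro ⟨w, hw⟩
    obtain ⟨v, hv, -⟩ := Scheme.Pullback.exists_preimage_pullback (f := pullback.fst B.hom s) (g := f.left)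
      z w hw.symm
    refine ⟨sq.isoPullback.inv v, ?_⟩
    rw [← hv, ← Scheme.Hom.comp_apply, IsPullback.isoPullback_inv_fst]

variable {G : Over (Spec (CommRingCat.of k))} [GrpObj G]

theorem properties_hom [IsFinite G.hom] {T : Over X} {a : AlgGrp.Action (Red.bc s G) T}
    (ha : NonAbH1.IsTorsorFor Scheme.fppfPrecoverage a) :
    IsFinite T.hom ∧ Flat T.hom ∧ LocallyOfFinitePresentation T.hom := by
  have h1 : IsFinite (Red.bc s G).hom := inferInstanceAs (IsFinite (pullback.snd G.hom s))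
  have h2 : Flat (Red.bc s G).hom := inferInstanceAs (Flat (pullback.snd G.hom s))
  have : LocallyOfFinitePresentation G.hom := inferInstance
  have h3 : LocallyOfFinitePresentation (Red.bc s G).hom :=
    inferInstanceAs (LocallyOfFinitePresentation (pullback.snd G.hom s))
  exact ⟨property_hom @IsFinite Groth.Agent.Et18.descends_isFinite (fppf_isTorsorFor_fpqc ha) h1,
    property_hom @Flat Groth.Agent.AlgSpLib.descends_flat (fppf_isTorsorFor_fpqc ha) h2,
    property_hom @LocallyOfFinitePresentation inferInstance (fppf_isTorsorFor_fpqc ha) h3⟩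

variable {G₁ G₂ : Over (Spec (CommRingCat.of k))} [GrpObj G₁] [GrpObj G₂]
  (φ₁ : G₁ ⟶ G) (φ₂ : G₂ ⟶ G)

/-- The fibre product of pointed torsors surjects onto a connected base. -/
theorem surjective_fibre_product [ConnectedSpace X] [IsFinite G.hom] [IsFinite G₁.hom] [IsFinite G₂.hom]
    [IsMonHom φ₁] [IsMonHom φ₂]
    {T T₁ T₂ : Over X} (a : AlgGrp.Action (Red.bc s G) T) (a₁ : AlgGrp.Action (Red.bc s G₁) T₁)
    (a₂ : AlgGrp.Action (Red.bc s G₂) T₂)
    (hT : NonAbH1.IsTorsorFor Scheme.fppfPrecoverage a)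
    (hT₁ : NonAbH1.IsTorsorFor Scheme.fppfPrecoverage a₁)
    (hT₂ : NonAbH1.IsTorsorFor Scheme.fppfPrecoverage a₂)
    (f₁ : T₁ ⟶ T) (f₂ : T₂ ⟶ T)
    (hf₁ : AlgGrp.Action.IsEquivariant a₁ (a.restrict ((Over.pullback s).map φ₁)) f₁)
    (hf₂ : AlgGrp.Action.IsEquivariant a₂ (a.restrict ((Over.pullback s).map φ₂)) f₂)
    {Z₀ : Over X} (z₀ : Z₀.left) (p₁ : Z₀ ⟶ T₁) (p₂ : Z₀ ⟶ T₂) (hp : p₁ ≫ f₁ = p₂ ≫ f₂) :
    Surjective (pullback f₁ f₂).hom := by
  obtain ⟨hf1, hfl1, hlfp1⟩ := properties_hom s hT₁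
  obtain ⟨hf2, hfl2, hlfp2⟩ := properties_hom s hT₂
  have heq₁ : ∀ {Z : Over X} (g : Z ⟶ Red.bc s G₁) (p : Z ⟶ T₁),
      actPt a₁ g p ≫ f₁ = actPt a (g ≫ (Over.pullback s).map φ₁) (p ≫ f₁) := fun g p => by
    simp only [actPt, Category.assoc]
    rw [show a₁.act ≫ f₁ = _ from hf₁, AlgGrp.Action.restrict_act, lift_whiskerLeft_assoc,
      lift_whiskerRight_assoc]
  have heq₂ : ∀ {Z : Over X} (g : Z ⟶ Red.bc s G₂) (p : Z ⟶ T₂),
      actPt a₂ g p ≫ f₂ = actPt a (g ≫ (Over.pullback s).map φ₂) (p ≫ f₂) := fun g p => by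
    simp only [actPt, Category.assoc]
    rw [show a₂.act ≫ f₂ = _ from hf₂, AlgGrp.Action.restrict_act, lift_whiskerLeft_assoc,
      lift_whiskerRight_assoc]
  obtain ⟨δ, hδ, -⟩ := existsUnique_actPt hT.1 (snd T₁ T₂ ≫ f₂) (fst T₁ T₂ ≫ f₁)
  let m₀ : G₁ ⊗ G₂ ⟶ G := (fst G₁ G₂ ≫ φ₁)⁻¹ * (snd G₁ G₂ ≫ φ₂)
  let m : Red.bc s G₁ ⊗ Red.bc s G₂ ⟶ Red.bc s G :=
    Functor.LaxMonoidal.μ (Over.pullback s) G₁ G₂ ≫ (Over.pullback s).map m₀
  have hm : m = (fst _ _ ≫ (Over.pullback s).map φ₁)⁻¹ * (snd _ _ ≫ (Over.pullback s).map φ₂) := by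
    have e : ∀ {A : Over (Spec (CommRingCat.of k))} (g g' : A ⟶ G),
        (Over.pullback s).map (g⁻¹ * g') = ((Over.pullback s).map g)⁻¹ * (Over.pullback s).map g' :=
      fun g g' => by
        rw [Functor.map_mul, Functor.map_inv']
    simp only [m, m₀, e, MonObj.comp_mul, GrpObj.comp_inv, Functor.map_comp,
      Functor.Monoidal.μ_fst_assoc, Functor.Monoidal.μ_snd_assoc]
  have hrange : Set.range m.left = pullback.fst G.hom s ⁻¹' Set.range m₀.left := by
    rw [← range_pullback_map_left s m₀]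
    have : IsIso (Functor.LaxMonoidal.μ (Over.pullback s) G₁ G₂).left :=
      Functor.map_isIso (Over.forget X) (Functor.LaxMonoidal.μ (Over.pullback s) G₁ G₂)
    rw [show m.left = (Functor.LaxMonoidal.μ (Over.pullback s) G₁ G₂).left ≫
      ((Over.pullback s).map m₀).left from rfl, Scheme.Hom.comp_base]
    exact (Scheme.Hom.surjective (Functor.LaxMonoidal.μ (Over.pullback s) G₁ G₂).left).range_comp _
  let W : Set (T₁ ⊗ T₂).left := δ.left ⁻¹' Set.range m.left
  have hW : IsClopen W := by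
    have := discreteTopology_of_finite G.hom
    simp only [W, hrange, ← Set.preimage_comp]
    exact (isClopen_discrete _).preimage (Continuous.comp (pullback.fst G.hom s).continuous δ.left.continuous)
  have hYf : IsFinite (T₁ ⊗ T₂).hom :=
    inferInstanceAs (IsFinite (pullback.fst T₁.hom T₂.hom ≫ T₁.hom))
  have hYfl : Flat (T₁ ⊗ T₂).hom :=
    inferInstanceAs (Flat (pullback.fst T₁.hom T₂.hom ≫ T₁.hom))
  have hYlfp : LocallyOfFinitePresentation (T₁ ⊗ T₂).hom :=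
    inferInstanceAs (LocallyOfFinitePresentation (pullback.fst T₁.hom T₂.hom ≫ T₁.hom))
  have himg : (T₁ ⊗ T₂).hom '' W = Set.univ := by
    refine IsClopen.eq_univ ⟨(T₁ ⊗ T₂).hom.isClosedMap _ hW.1, (T₁ ⊗ T₂).hom.isOpenMap _ hW.2⟩ ?_
    refine ⟨_, (lift p₁ p₂).left z₀, ?_, rfl⟩
    refine ⟨(lift (1 : Z₀ ⟶ Red.bc s G₁) (1 : Z₀ ⟶ Red.bc s G₂)).left z₀, ?_⟩
    have hh : lift (1 : Z₀ ⟶ Red.bc s G₁) (1 : Z₀ ⟶ Red.bc s G₂) ≫ m = lift p₁ p₂ ≫ δ := by
      refine (existsUnique_actPt hT.1 (p₂ ≫ f₂) (p₁ ≫ f₁)).unique ?_ ?_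
      · rw [hm, hp]
        simp only [MonObj.comp_mul, GrpObj.comp_inv, lift_fst_assoc, lift_snd_assoc, MonObj.one_comp,
          inv_one, actPt_one]
        exact (congrArg (fun g : Z₀ ⟶ Red.bc s G => NonAbLib.actPt a g (p₂ ≫ f₂))
          (_root_.one_mul (1 : Z₀ ⟶ Red.bc s G))).trans (NonAbLib.actPt_one a (p₂ ≫ f₂))
      · simpa using congrArg (lift p₁ p₂ ≫ ·) hδ
    rw [← Scheme.Hom.comp_apply, ← Over.comp_left, ← Scheme.Hom.comp_apply, ← Over.comp_left, hh]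
  refine ⟨fun y => ?_⟩
  obtain ⟨w, ⟨v, hv⟩, rfl⟩ := (Set.eq_univ_iff_forall.mp himg) y
  obtain ⟨z, hz1, -⟩ := Scheme.Pullback.exists_preimage_pullback (f := δ.left) (g := m.left) w v hv.symm
  let Z : Over X := Over.mk (pullback.fst δ.left m.left ≫ (T₁ ⊗ T₂).hom)
  let p : Z ⟶ T₁ ⊗ T₂ := Over.homMk (pullback.fst δ.left m.left) rfl
  let g : Z ⟶ Red.bc s G₁ ⊗ Red.bc s G₂ := Over.homMk (pullback.snd δ.left m.left) (by
    show pullback.snd δ.left m.left ≫ (Red.bc s G₁ ⊗ Red.bc s G₂).hom = _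
    rw [← Over.w m, ← Category.assoc, ← pullback.condition, Category.assoc, Over.w δ]
    rfl)
  have hpg : p ≫ δ = g ≫ m := by
    ext : 1
    exact pullback.condition
  let r₁ := actPt a₁ (g ≫ fst _ _) (p ≫ fst T₁ T₂)
  let r₂ := actPt a₂ (g ≫ snd _ _) (p ≫ snd T₁ T₂)
  have hr : r₁ ≫ f₁ = r₂ ≫ f₂ := by
    have h0 : actPt a (p ≫ δ) ((p ≫ snd T₁ T₂) ≫ f₂) = (p ≫ fst T₁ T₂) ≫ f₁ := by
      simpa using congrArg (p ≫ ·) hδ
    rw [heq₁, heq₂, ← h0, ← actPt_mul, hpg, hm]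
    simp only [MonObj.comp_mul, GrpObj.comp_inv, Category.assoc, mul_inv_cancel_left]
  refine ⟨(Limits.pullback.lift r₁ r₂ hr).left z, ?_⟩
  rw [← Scheme.Hom.comp_apply, Over.w]
  show (pullback.fst δ.left m.left ≫ (T₁ ⊗ T₂).hom) z = _
  rw [Scheme.Hom.comp_apply, hz1]

end NonAbLib
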