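import Groth.Agent.FlatCxLib.DRank2
import Mathlib.AlgebraicGeometry.Morphisms.FlatRank

/-!
# Finite morphisms with constant fibre rank over a reduced base are flat
-/

set_option autoImplicit false
set_option backward.isDefEq.respectTransparency.types false

universe u

open CategoryTheory Limits AlgebraicGeometry TensorProduct

namespace NonAbLib

/-- All fibres over field valued points have rank `n`. -/
def FibreRankEq {Z X : Scheme.{u}} (f : Z ⟶ X) (n : ℕ) : Prop :=
  ∀ (K : Type u) [Field K] (W : Scheme.{u}) (fst : W ⟶ Z) (snd : W ⟶ Spec (CommRingCat.of K))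
    (g : Spec (CommRingCat.of K) ⟶ X), IsPullback fst snd f g → snd.finrank default = n

theorem fibreRankEq_of_pullback {Z X : Scheme.{u}} (f : Z ⟶ X) [IsFinite f] (n : ℕ)
    (h : ∀ (K : Type u) [Field K] (g : Spec (CommRingCat.of K) ⟶ X),
      (pullback.snd f g).finrank default = n) : FibreRankEq f n := fun K _ W fst snd g hW => by
  rw [← hW.isoPullback_hom_snd, Scheme.Hom.finrank_comp_left_of_isIso]
  exact h K g

theorem flat_of_fibreRankEq_Spec {R S : CommRingCat.{u}} [IsReduced (Spec R)] (φ : R ⟶ S)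
    [IsFinite (Spec.map φ)] (n : ℕ) (h : FibreRankEq (Spec.map φ) n) : Flat (Spec.map φ) := by
  have : _root_.IsReduced R := isReduced_of_injective (Scheme.ΓSpecIso R).inv.hom
    (Scheme.ΓSpecIso R).symm.commRingCatIsoToRingEquiv.injective
  have hf : φ.hom.Finite := (IsFinite.SpecMap_iff φ).mp inferInstance
  rw [Flat.SpecMap_iff]
  letI := φ.hom.toAlgebra
  haveI : Module.Finite R S := hf
  suffices Module.Flat R S from this
  refine Groth.Agent.FlatCxLib.flat_of_isLocallyConstant_fibreRank _ (IsLocallyConstant.of_constant _ fun x y => ?_)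
  suffices ∀ p : PrimeSpectrum R, Groth.Agent.FlatCxLib.fibreRank (A := R) S p = n from (this x).trans (this y).symm
  intro p
  let K := p.asIdeal.ResidueField
  have hpb := (isPullback_SpecMap_of_isPushout _ _ _ _ (CommRingCat.isPushout_tensorProduct R K S)).flip
  have hn := h K (Spec (CommRingCat.of (K ⊗[R] S))) _ _ _ hpb
  have e := Scheme.Hom.finrank_SpecMap_algebraMap K (K ⊗[R] S) (default : PrimeSpectrum K)
  rw [Module.rankAtStalk_eq_finrank_of_free] at e
  simp only [Pi.natCast_def, Nat.cast_id] at e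
  refine e.symm.trans (Eq.trans ?_ hn)
  congr 1
  exact Subsingleton.elim (α := Spec (CommRingCat.of K)) _ _

theorem FibreRankEq.baseChange {Z X Z' X' : Scheme.{u}} {f : Z ⟶ X} {n : ℕ} (h : FibreRankEq f n)
    {f' : Z' ⟶ X'} {p : Z' ⟶ Z} {q : X' ⟶ X} (hp : IsPullback p f' f q) : FibreRankEq f' n :=
  fun K _ W fst snd g hW => h K W (fst ≫ p) snd (g ≫ q) (hW.paste_horiz hp)

theorem flat_of_fibreRankEq_affine {R : CommRingCat.{u}} [IsReduced (Spec R)] {Z : Scheme.{u}}
    (f : Z ⟶ Spec R) [IsFinite f] (n : ℕ) (h : FibreRankEq f n) : Flat f := by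
  have : IsAffine Z := isAffine_of_isAffineHom f
  obtain ⟨φ, hφ⟩ := Spec.map_surjective (Z.isoSpec.inv ≫ f)
  have : IsFinite (Spec.map φ) := by rw [hφ]; infer_instance
  have hF : Flat (Spec.map φ) :=
    flat_of_fibreRankEq_Spec φ n (h.baseChange (p := Z.isoSpec.inv) (q := 𝟙 _)
      (IsPullback.of_horiz_isIso ⟨by simp [hφ]⟩))
  rw [← MorphismProperty.cancel_left_of_respectsIso @Flat Z.isoSpec.inv]
  exact hφ ▸ hF

/-- A finite morphism to a reduced scheme whose fibres have constant rank is flat. -/
theorem flat_of_fibreRankEq {Z X : Scheme.{u}} [IsReduced X] (f : Z ⟶ X) [IsFinite f] (n : ℕ)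
    (h : FibreRankEq f n) : Flat f := by
  rw [IsZariskiLocalAtTarget.iff_of_openCover (P := @Flat) X.affineCover]
  intro i
  have : IsReduced (X.affineCover.X i) := isReduced_of_isOpenImmersion (X.affineCover.f i)
  exact @flat_of_fibreRankEq_affine _ this _ (pullback.snd f (X.affineCover.f i))
    (MorphismProperty.pullback_snd _ _ inferInstance) n
    (h.baseChange (IsPullback.of_hasPullback f (X.affineCover.f i)))

end NonAbLib
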