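import Groth.Agent.NonAb.FibreProd
import Groth.Agent.NonAb.FlatRankReduced

/-!
# Fibre products of pointed finite torsors over a connected reduced base are torsors
-/

set_option backward.isDefEq.respectTransparency.types false

universe u

open CategoryTheory Limits MonoidalCategory CartesianMonoidalCategory MonObj GrpObj AlgebraicGeometry

namespace NonAbLib

variable {k : Type u} [Field k] {X : Scheme.{u}} (s : X ⟶ Spec (CommRingCat.of k))

/-- The fibres of a surjective finite pseudo-torsor have the rank of the group. -/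
theorem fibreRankEq_of_pseudoTorsor {G : Over (Spec (CommRingCat.of k))} [GrpObj G] [IsFinite G.hom]
    {Y : Over X} [IsFinite Y.hom] [Surjective Y.hom] {c : AlgGrp.Action (Red.bc s G) Y}
    (hc : NonAbH1.IsPseudoTorsorSch c) : FibreRankEq Y.hom (G.hom.finrank default) :=
  fibreRankEq_of_pullback _ _ fun K _ g => by
    let W := pullback Y.hom g
    obtain ⟨w, -⟩ := (pullback.snd Y.hom g).surjective default
    let h : Spec (W.residueField w) ⟶ Spec (CommRingCat.of K) :=
      W.fromSpecResidueField w ≫ pullback.snd _ _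
    let p : Spec (W.residueField w) := default
    rw [show (default : Spec (CommRingCat.of K)) = h p from Subsingleton.elim _ _,
      ← Scheme.Hom.finrank_pullback_snd, ← pullbackLeftPullbackSndIso_hom_snd,
      Scheme.Hom.finrank_comp_left_of_isIso]
    let Z₀ : Over X := Over.mk (h ≫ g)
    let σ : Z₀ ⟶ Y := Over.homMk (W.fromSpecResidueField w ≫ pullback.fst _ _)
      (by simp [Z₀, h, W, pullback.condition])
    have := isIso_trivMap hc σ
    have : IsIso (trivMap c σ).left := Functor.map_isIso (Over.forget X) (trivMap c σ)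
    have hfl : Flat (Red.bc s G).hom := inferInstanceAs (Flat (pullback.snd G.hom s))
    have hfi : IsFinite (Red.bc s G).hom := inferInstanceAs (IsFinite (pullback.snd G.hom s))
    have hflat : Flat (pullback.snd Y.hom (h ≫ g)) := inferInstance
    have : Flat (pullback.snd Y.hom Z₀.hom) := hflat
    show (pullback.snd Y.hom Z₀.hom).finrank p = _
    rw [← Scheme.Hom.finrank_comp_left_of_isIso (trivMap c σ).left, trivMap_snd,
      Scheme.Hom.finrank_pullback_snd]
    show (pullback.snd G.hom s).finrank _ = _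
    rw [Scheme.Hom.finrank_pullback_snd]
    exact congrArg _ (Subsingleton.elim _ _)

variable {G G₁ G₂ P : Over (Spec (CommRingCat.of k))} [GrpObj G] [GrpObj G₁] [GrpObj G₂] [GrpObj P]
  {φ₁ : G₁ ⟶ G} {φ₂ : G₂ ⟶ G} {π₁ : P ⟶ G₁} {π₂ : P ⟶ G₂}
  {T T₁ T₂ : Over X} {a : AlgGrp.Action (Red.bc s G) T} {a₁ : AlgGrp.Action (Red.bc s G₁) T₁}
  {a₂ : AlgGrp.Action (Red.bc s G₂) T₂} {f₁ : T₁ ⟶ T} {f₂ : T₂ ⟶ T}

theorem equivariant_actPt [IsMonHom φ₁]
    (hf₁ : AlgGrp.Action.IsEquivariant a₁ (a.restrict ((Over.pullback s).map φ₁)) f₁)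
    {Z : Over X} (g : Z ⟶ Red.bc s G₁) (p : Z ⟶ T₁) :
    actPt a₁ g p ≫ f₁ = actPt a (g ≫ (Over.pullback s).map φ₁) (p ≫ f₁) := by
  simp only [actPt, Category.assoc]
  rw [show a₁.act ≫ f₁ = _ from hf₁, AlgGrp.Action.restrict_act, lift_whiskerLeft_assoc,
    lift_whiskerRight_assoc]

/-- The componentwise action on the fibre product of two torsors. -/
theorem exists_fibre_action [IsMonHom φ₁] [IsMonHom φ₂] [IsMonHom π₁] [IsMonHom π₂]
    (hf₁ : AlgGrp.Action.IsEquivariant a₁ (a.restrict ((Over.pullback s).map φ₁)) f₁)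
    (hf₂ : AlgGrp.Action.IsEquivariant a₂ (a.restrict ((Over.pullback s).map φ₂)) f₂)
    (hP : π₁ ≫ φ₁ = π₂ ≫ φ₂) :
    ∃ c : AlgGrp.Action (Red.bc s P) (Limits.pullback f₁ f₂),
      (∀ {Z : Over X} (g : Z ⟶ Red.bc s P) (y : Z ⟶ Limits.pullback f₁ f₂),
        actPt c g y ≫ pullback.fst f₁ f₂ =
          actPt a₁ (g ≫ (Over.pullback s).map π₁) (y ≫ pullback.fst f₁ f₂)) ∧
      ∀ {Z : Over X} (g : Z ⟶ Red.bc s P) (y : Z ⟶ Limits.pullback f₁ f₂),
        actPt c g y ≫ pullback.snd f₁ f₂ =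
          actPt a₂ (g ≫ (Over.pullback s).map π₂) (y ≫ pullback.snd f₁ f₂) := by
  have hw : (Over.pullback s).map π₁ ≫ (Over.pullback s).map φ₁ =
      (Over.pullback s).map π₂ ≫ (Over.pullback s).map φ₂ := by
    rw [← Functor.map_comp, ← Functor.map_comp, hP]
  let act : Red.bc s P ⊗ Limits.pullback f₁ f₂ ⟶ Limits.pullback f₁ f₂ :=
    Limits.pullback.lift (actPt a₁ (fst _ _ ≫ (Over.pullback s).map π₁) (snd _ _ ≫ pullback.fst f₁ f₂))
      (actPt a₂ (fst _ _ ≫ (Over.pullback s).map π₂) (snd _ _ ≫ pullback.snd f₁ f₂)) (by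
        rw [equivariant_actPt s hf₁, equivariant_actPt s hf₂, Category.assoc, Category.assoc, hw,
          Category.assoc, Category.assoc, pullback.condition])
  have h1 : ∀ {Z : Over X} (g : Z ⟶ Red.bc s P) (y : Z ⟶ Limits.pullback f₁ f₂),
      lift g y ≫ act ≫ pullback.fst f₁ f₂ =
        actPt a₁ (g ≫ (Over.pullback s).map π₁) (y ≫ pullback.fst f₁ f₂) := fun g y => by
    simp [act, pullback.lift_fst]
  have h2 : ∀ {Z : Over X} (g : Z ⟶ Red.bc s P) (y : Z ⟶ Limits.pullback f₁ f₂),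
      lift g y ≫ act ≫ pullback.snd f₁ f₂ =
        actPt a₂ (g ≫ (Over.pullback s).map π₂) (y ≫ pullback.snd f₁ f₂) := fun g y => by
    simp [act, pullback.lift_snd]
  refine ⟨{ act := act, one_act := ?_, mul_act := ?_ },
    fun g y => by rw [← h1]; simp [actPt], fun g y => by rw [← h2]; simp [actPt]⟩
  · have e : η[Red.bc s P] ▷ Limits.pullback f₁ f₂ =
        lift (1 : _ ⟶ Red.bc s P) (λ_ (Limits.pullback f₁ f₂)).hom := by
      refine CartesianMonoidalCategory.hom_ext _ _ ?_ ?_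
      · rw [whiskerRight_fst, lift_fst, Hom.one_def, toUnit_unique (fst _ _) (toUnit _)]
      · rw [whiskerRight_snd, lift_snd, leftUnitor_hom]
    apply Limits.pullback.hom_ext
    · rw [Category.assoc, e, h1, MonObj.one_comp, actPt_one]
    · rw [Category.assoc, e, h2, MonObj.one_comp, actPt_one]
  · let g : (Red.bc s P ⊗ Red.bc s P) ⊗ Limits.pullback f₁ f₂ ⟶ Red.bc s P := fst _ _ ≫ fst _ _
    let g' : (Red.bc s P ⊗ Red.bc s P) ⊗ Limits.pullback f₁ f₂ ⟶ Red.bc s P := fst _ _ ≫ snd _ _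
    let y : (Red.bc s P ⊗ Red.bc s P) ⊗ Limits.pullback f₁ f₂ ⟶ Limits.pullback f₁ f₂ := snd _ _
    have e1 : μ[Red.bc s P] ▷ Limits.pullback f₁ f₂ = lift (g * g') y := by
      refine CartesianMonoidalCategory.hom_ext _ _ ?_ ?_
      · rw [whiskerRight_fst, lift_fst, Hom.mul_def, ← comp_lift, lift_fst_snd, Category.comp_id]
      · simp [y]
    have e2 : (α_ (Red.bc s P) (Red.bc s P) (Limits.pullback f₁ f₂)).hom ≫ (Red.bc s P ◁ act) =
        lift g (lift g' y ≫ act) := by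
      refine CartesianMonoidalCategory.hom_ext _ _ ?_ ?_
      · simp [g]
      · rw [Category.assoc, whiskerLeft_snd, lift_snd, ← Category.assoc]
        congr 1
        refine CartesianMonoidalCategory.hom_ext _ _ ?_ ?_ <;> simp [g', y]
    rw [e1, ← Category.assoc, e2]
    apply Limits.pullback.hom_ext
    · simp only [Category.assoc, h1, MonObj.mul_comp, actPt_mul, g]
    · simp only [Category.assoc, h2, MonObj.mul_comp, actPt_mul, g]

/-- The componentwise action makes the fibre product a pseudo-torsor. -/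
theorem isPseudoTorsorSch_fibre [IsMonHom φ₁] [IsMonHom φ₂] (hP : IsPullback π₁ π₂ φ₁ φ₂)
    (hT : NonAbH1.IsPseudoTorsorSch a) (hT₁ : NonAbH1.IsPseudoTorsorSch a₁)
    (hT₂ : NonAbH1.IsPseudoTorsorSch a₂)
    (hf₁ : AlgGrp.Action.IsEquivariant a₁ (a.restrict ((Over.pullback s).map φ₁)) f₁)
    (hf₂ : AlgGrp.Action.IsEquivariant a₂ (a.restrict ((Over.pullback s).map φ₂)) f₂)
    (c : AlgGrp.Action (Red.bc s P) (Limits.pullback f₁ f₂))
    (hc₁ : ∀ {Z : Over X} (g : Z ⟶ Red.bc s P) (y : Z ⟶ Limits.pullback f₁ f₂),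
      actPt c g y ≫ pullback.fst f₁ f₂ =
        actPt a₁ (g ≫ (Over.pullback s).map π₁) (y ≫ pullback.fst f₁ f₂))
    (hc₂ : ∀ {Z : Over X} (g : Z ⟶ Red.bc s P) (y : Z ⟶ Limits.pullback f₁ f₂),
      actPt c g y ≫ pullback.snd f₁ f₂ =
        actPt a₂ (g ≫ (Over.pullback s).map π₂) (y ≫ pullback.snd f₁ f₂)) :
    NonAbH1.IsPseudoTorsorSch c := by
  have hb := hP.map (Over.pullback s)
  let Y := Limits.pullback f₁ f₂
  let y : Y ⊗ Y ⟶ Y := fst Y Y
  let x : Y ⊗ Y ⟶ Y := snd Y Y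
  obtain ⟨g₁, hg₁, -⟩ := existsUnique_actPt hT₁ (x ≫ pullback.fst f₁ f₂) (y ≫ pullback.fst f₁ f₂)
  obtain ⟨g₂, hg₂, -⟩ := existsUnique_actPt hT₂ (x ≫ pullback.snd f₁ f₂) (y ≫ pullback.snd f₁ f₂)
  have hg : g₁ ≫ (Over.pullback s).map φ₁ = g₂ ≫ (Over.pullback s).map φ₂ := by
    refine (existsUnique_actPt hT ((x ≫ pullback.fst f₁ f₂) ≫ f₁)
      ((y ≫ pullback.fst f₁ f₂) ≫ f₁)).unique ?_ ?_
    · rw [← equivariant_actPt s hf₁, hg₁]
    · rw [Category.assoc x, Category.assoc y, pullback.condition, ← Category.assoc x,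
        ← Category.assoc y, ← equivariant_actPt s hf₂, hg₂]
  let d : Y ⊗ Y ⟶ Red.bc s P := hb.lift g₁ g₂ hg
  have key : ∀ {Z : Over X} (g g' : Z ⟶ Red.bc s P) (z : Z ⟶ Y),
      actPt c g z = actPt c g' z → g = g' := fun g g' z h => by
    refine hb.hom_ext ?_ ?_
    · exact (existsUnique_actPt hT₁ (z ≫ pullback.fst f₁ f₂)
        (actPt c g z ≫ pullback.fst f₁ f₂)).unique (hc₁ g z).symm (by rw [h]; exact (hc₁ g' z).symm)
    · exact (existsUnique_actPt hT₂ (z ≫ pullback.snd f₁ f₂)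
        (actPt c g z ≫ pullback.snd f₁ f₂)).unique (hc₂ g z).symm (by rw [h]; exact (hc₂ g' z).symm)
  have hd : actPt c d x = y := by
    apply Limits.pullback.hom_ext
    · rw [hc₁, hb.lift_fst, hg₁]
    · rw [hc₂, hb.lift_snd, hg₂]
  refine ⟨lift d x, ?_, ?_⟩
  · refine CartesianMonoidalCategory.hom_ext _ _ ?_ ?_
    · rw [Category.assoc, lift_fst, Category.id_comp]
      refine key _ _ (snd (Red.bc s P) Y) ?_
      have h0 : actPt c (lift c.act (snd (Red.bc s P) Y) ≫ d) (snd (Red.bc s P) Y) = c.act := by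
        have h1 := congrArg (lift c.act (snd (Red.bc s P) Y) ≫ ·) hd
        simpa [x, y, Y] using h1
      rw [actPt, actPt] at *
      rw [lift_fst_snd, Category.id_comp]
      exact h0
    · simp [x, Y]
  · refine CartesianMonoidalCategory.hom_ext _ _ ?_ ?_
    · rw [Category.assoc, lift_fst, Category.id_comp]
      exact hd
    · simp [x, Y]

end NonAbLib
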