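import Groth.Prelude.Def_NonAbH1
import Mathlib.Algebra.Category.Grp.ForgetCorepresentable

/-!
# Glueing in sheaves of sets on an arbitrary site, with element-level statements
-/

universe w v u

open CategoryTheory Opposite

namespace NonAbLib

variable {C : Type u} [Category.{v} C] {J : GrothendieckTopology C}

/-- The presheaf of sets underlying a sheaf of groups is a sheaf, in all universes. -/
instance hasSheafCompose_forget : J.HasSheafCompose (forget GrpCat.{w}) where
  isSheaf P hP := by
    rw [isSheaf_iff_isSheaf_of_type]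
    exact Presieve.isSheaf_iso J
      (Functor.isoWhiskerLeft P GrpCat.coyonedaObjIsoForget)
      (hP (GrpCat.of (ULift.{w} (Multiplicative ℤ))))

variable (P : Sheaf J (Type w))

theorem map_map {U V W : C} (f : V ⟶ U) (g : W ⟶ V) (s : P.obj.obj (op U)) :
    P.obj.map g.op (P.obj.map f.op s) = P.obj.map (g ≫ f).op s := by
  simp

/-- Sections agreeing on a covering sieve are equal. -/
theorem sheaf_ext {X : C} {S : Sieve X} (hS : S ∈ J X) {s t : P.obj.obj (op X)}
    (h : ∀ ⦃V : C⦄ (f : V ⟶ X), S f → P.obj.map f.op s = P.obj.map f.op t) : s = t :=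
  ((Presheaf.IsSheaf.isSheafFor P.property S hS).isSeparatedFor).ext (fun _ f hf => h f hf)

/-- Sections on the members of a covering sieve, compatible with restriction, glue. -/
theorem exists_amalg {X : C} {S : Sieve X} (hS : S ∈ J X)
    (x : ∀ ⦃V : C⦄ (f : V ⟶ X), S f → P.obj.obj (op V))
    (hx : ∀ ⦃V W : C⦄ (f : V ⟶ X) (g : W ⟶ V) (hf : S f),
      P.obj.map g.op (x f hf) = x (g ≫ f) (S.downward_closed hf g)) :
    ∃ s : P.obj.obj (op X), ∀ ⦃V : C⦄ (f : V ⟶ X) (hf : S f), P.obj.map f.op s = x f hf := by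
  have hc : Presieve.FamilyOfElements.Compatible
      (fun V f hf => x f hf : Presieve.FamilyOfElements P.obj S.arrows) := by
    rw [Presieve.compatible_iff_sieveCompatible]
    intro V W f g hf
    exact (hx f g hf).symm
  exact ⟨_, fun V f hf => (Presheaf.IsSheaf.isSheafFor P.property S hS).valid_glue hc f hf⟩

/-- Local sections pinned down by a property stable under restriction glue. -/
theorem exists_glue {X : C} {S : Sieve X} (hS : S ∈ J X)
    (R : ∀ ⦃V : C⦄, (V ⟶ X) → P.obj.obj (op V) → Prop)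
    (hR : ∀ ⦃V W : C⦄ (f : V ⟶ X) (g : W ⟶ V) (y : P.obj.obj (op V)), S f → R f y →
      R (g ≫ f) (P.obj.map g.op y))
    (huniq : ∀ ⦃V : C⦄ (f : V ⟶ X) (y y' : P.obj.obj (op V)), S f → R f y → R f y' → y = y')
    (hex : ∀ ⦃V : C⦄ (f : V ⟶ X), S f → ∃ y, R f y) :
    ∃ s : P.obj.obj (op X), ∀ ⦃V : C⦄ (f : V ⟶ X), S f → R f (P.obj.map f.op s) := by
  choose x hx using hex
  obtain ⟨s, hs⟩ := exists_amalg P hS x (fun V W f g hf =>
    huniq _ _ _ (S.downward_closed hf g) (hR f g _ hf (hx f hf)) (hx _ _))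
  exact ⟨s, fun V f hf => by rw [hs f hf]; exact hx f hf⟩

/-- A property of local sections which is stable under restriction, has at most one solution over
every object and is locally solvable everywhere, defines a unique global section. -/
theorem exists_sections (R : ∀ V : C, P.obj.obj (op V) → Prop)
    (hR : ∀ ⦃V W : C⦄ (g : W ⟶ V) (y : P.obj.obj (op V)), R V y → R W (P.obj.map g.op y))
    (huniq : ∀ (V : C) (y y' : P.obj.obj (op V)), R V y → R V y' → y = y')
    (hex : ∀ U : C, ∃ S ∈ J U, ∀ ⦃V : C⦄ (f : V ⟶ U), S f → ∃ y, R V y) :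
    ∃ c : P.obj.sections, ∀ (V : C) (y : P.obj.obj (op V)), R V y → c.1 (op V) = y := by
  choose S hS hS' using hex
  have key : ∀ U : C, ∃ s : P.obj.obj (op U),
      ∀ ⦃V : C⦄ (f : V ⟶ U), S U f → R V (P.obj.map f.op s) := fun U =>
    exists_glue P (hS U) (fun V _ y => R V y) (fun V W f g y _ h => hR g y h)
      (fun V f y y' _ => huniq V y y') (fun V f hf => hS' U f hf)
  choose s hs using key
  refine ⟨⟨fun U => s U.unop, ?_⟩, fun V y hy => ?_⟩
  · intro U V g
    obtain ⟨g, rfl⟩ : ∃ g' : V.unop ⟶ U.unop, g'.op = g := ⟨g.unop, rfl⟩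
    refine sheaf_ext P (J.intersection_covering (hS _) (J.pullback_stable g (hS _))) fun W f hf => ?_
    rw [map_map P g f]
    exact huniq W _ _ (hs _ (f ≫ g) hf.2) (hs _ f hf.1)
  · refine sheaf_ext P (hS V) fun W f hf => ?_
    exact huniq W _ _ (hs V f hf) (hR f y hy)

end NonAbLib
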