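import Groth.Agent.NonAb.Torsor
import Mathlib.Algebra.Category.Grp.Limits
import Mathlib.CategoryTheory.Filtered.Basic
import Mathlib.CategoryTheory.Elements
import Mathlib.Algebra.Group.MinimalAxioms

/-!
# Embedding a sheaf of groups into one without non-trivial torsors (Godement)
-/

universe u

open CategoryTheory Opposite

namespace NonAbLib

variable {C : Type (u + 1)} [Category.{u} C]

section Germ

variable (P : Cᵒᵖ ⥤ GrpCat.{u + 1}) (K : C ⥤ Type u) [IsCofiltered K.Elements]

/-- Two sections over pointed objects agree near the point. -/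
def GermRel (a b : Σ e : K.Elements, P.obj (op e.1)) : Prop :=
  ∃ (e : K.Elements) (f : e ⟶ a.1) (g : e ⟶ b.1), P.map f.1.op a.2 = P.map g.1.op b.2

theorem elements_comp_val {e e' e'' : K.Elements} (f : e ⟶ e') (g : e' ⟶ e'') :
    (f ≫ g).1 = f.1 ≫ g.1 := rfl

theorem pmap_map {A B D : C} (f : B ⟶ A) (g : D ⟶ B) (x : P.obj (op A)) :
    P.map g.op (P.map f.op x) = P.map (g ≫ f).op x := by
  simp

theorem germRel_equivalence : Equivalence (GermRel P K) where
  refl a := ⟨a.1, 𝟙 _, 𝟙 _, rfl⟩
  symm := fun ⟨e, f, g, h⟩ => ⟨e, g, f, h.symm⟩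
  trans := by
    rintro a b c ⟨e, f, g, h⟩ ⟨e', f', g', h'⟩
    obtain ⟨k, i, i', hi⟩ := IsCofiltered.cospan g f'
    refine ⟨k, i ≫ f, i' ≫ g', ?_⟩
    have hi' : i.1 ≫ g.1 = i'.1 ≫ f'.1 := congrArg Subtype.val hi
    rw [elements_comp_val, elements_comp_val, ← pmap_map, h, pmap_map, hi', ← pmap_map, h',
      pmap_map]

/-- The stalk of a presheaf of groups at a point. -/
def Germ : Type (u + 1) := Quot (GermRel P K)

/-- The germ of a section. -/
def germ (e : K.Elements) (x : P.obj (op e.1)) : Germ P K := Quot.mk _ ⟨e, x⟩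

variable {P K}

theorem germ_eq_iff (e e' : K.Elements) (x : P.obj (op e.1)) (y : P.obj (op e'.1)) :
    germ P K e x = germ P K e' y ↔ GermRel P K ⟨e, x⟩ ⟨e', y⟩ :=
  ⟨fun h => (germRel_equivalence P K).eqvGen_iff.mp (Quot.eqvGen_exact h), fun h => Quot.sound h⟩

theorem germ_map {e e' : K.Elements} (f : e ⟶ e') (x : P.obj (op e'.1)) :
    germ P K e (P.map f.1.op x) = germ P K e' x :=
  Quot.sound ⟨e, 𝟙 e, f, by simp⟩

theorem germ_eq_same {e : K.Elements} {x y : P.obj (op e.1)} (h : germ P K e x = germ P K e y) :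
    ∃ (e' : K.Elements) (f : e' ⟶ e), P.map f.1.op x = P.map f.1.op y := by
  obtain ⟨e', f, g, h⟩ := (germ_eq_iff e e x y).mp h
  refine ⟨_, IsCofiltered.eqHom f g ≫ f, ?_⟩
  have hfg : (IsCofiltered.eqHom f g).1 ≫ f.1 = (IsCofiltered.eqHom f g).1 ≫ g.1 :=
    congrArg Subtype.val (IsCofiltered.eq_condition f g)
  rw [elements_comp_val, ← pmap_map, h, pmap_map, ← hfg]

theorem germ_surjective (z : Germ P K) : ∃ e x, germ P K e x = z := by
  induction z using Quot.ind with | mk a => exact ⟨a.1, a.2, rfl⟩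

theorem germ_surjective₂ (z z' : Germ P K) :
    ∃ e x y, germ P K e x = z ∧ germ P K e y = z' := by
  obtain ⟨e, x, rfl⟩ := germ_surjective z
  obtain ⟨e', y, rfl⟩ := germ_surjective z'
  exact ⟨IsCofiltered.min e e', P.map (IsCofiltered.minToLeft e e').1.op x,
    P.map (IsCofiltered.minToRight e e').1.op y, germ_map _ _, germ_map _ _⟩

variable (P K) in
/-- The product of two germs. -/
noncomputable def germMul (z z' : Germ P K) : Germ P K :=
  germ P K _ ((germ_surjective₂ z z').choose_spec.choose *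
    (germ_surjective₂ z z').choose_spec.choose_spec.choose)

theorem germ_mul_congr {e e' : K.Elements} {x y : P.obj (op e.1)} {x' y' : P.obj (op e'.1)}
    (hx : germ P K e x = germ P K e' x') (hy : germ P K e y = germ P K e' y') :
    germ P K e (x * y) = germ P K e' (x' * y') := by
  let m := IsCofiltered.min e e'
  let p : m ⟶ e := IsCofiltered.minToLeft e e'
  let q : m ⟶ e' := IsCofiltered.minToRight e e'
  rw [← germ_map p x, ← germ_map q x'] at hx
  rw [← germ_map p y, ← germ_map q y'] at hy
  obtain ⟨n, f, hf⟩ := germ_eq_same hx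
  rw [← germ_map f, ← germ_map f (P.map q.1.op y')] at hy
  obtain ⟨l, g, hg⟩ := germ_eq_same hy
  rw [← germ_map p, ← germ_map q, ← germ_map f, ← germ_map f (P.map q.1.op (x' * y')), ← germ_map g,
    ← germ_map g (P.map f.1.op (P.map q.1.op (x' * y')))]
  simp only [map_mul, hf, hg]

theorem germMul_germ (e : K.Elements) (x y : P.obj (op e.1)) :
    germMul P K (germ P K e x) (germ P K e y) = germ P K e (x * y) := by
  have h := (germ_surjective₂ (germ P K e x) (germ P K e y)).choose_spec.choose_spec.choose_spec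
  exact germ_mul_congr h.1 h.2

noncomputable instance : Mul (Germ P K) := ⟨germMul P K⟩

noncomputable instance : Nonempty K.Elements := IsCofiltered.nonempty

noncomputable instance : One (Germ P K) := ⟨germ P K (Classical.arbitrary _) 1⟩

theorem germ_one (e : K.Elements) : germ P K e 1 = 1 := by
  refine Quot.sound ⟨_, IsCofiltered.minToLeft e (Classical.arbitrary _),
    IsCofiltered.minToRight e _, ?_⟩
  simp

/-- The inverse of a germ. -/
noncomputable instance : Inv (Germ P K) :=
  ⟨Quot.map (fun a => ⟨a.1, a.2⁻¹⟩) (fun a b ⟨e, f, g, h⟩ => ⟨e, f, g, by simp [h]⟩)⟩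

theorem germ_mul (e : K.Elements) (x y : P.obj (op e.1)) :
    germ P K e x * germ P K e y = germ P K e (x * y) := germMul_germ e x y

theorem germ_inv (e : K.Elements) (x : P.obj (op e.1)) :
    (germ P K e x)⁻¹ = germ P K e x⁻¹ := rfl

noncomputable instance : Group (Germ P K) := Group.ofLeftAxioms
  (fun z z' z'' => by
    obtain ⟨e, x, y, rfl, rfl⟩ := germ_surjective₂ z z'
    obtain ⟨e', w, rfl⟩ := germ_surjective z''
    rw [← germ_map (IsCofiltered.minToLeft e e') x, ← germ_map (IsCofiltered.minToLeft e e') y,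
      ← germ_map (IsCofiltered.minToRight e e') w]
    simp only [germ_mul, mul_assoc])
  (fun z => by
    obtain ⟨e, x, rfl⟩ := germ_surjective z
    rw [← germ_one e, germ_mul, one_mul])
  (fun z => by
    obtain ⟨e, x, rfl⟩ := germ_surjective z
    rw [germ_inv, germ_mul, inv_mul_cancel, germ_one])

variable (P K) in
/-- The germ at a point as a homomorphism. -/
noncomputable def germHom (U : C) (x : K.obj U) : P.obj (op U) →* Germ P K where
  toFun := germ P K (K.elementsMk U x)
  map_one' := germ_one _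
  map_mul' a b := (germ_mul (P := P) (K := K) (K.elementsMk U x) a b).symm

theorem germHom_map {U V : C} (f : V ⟶ U) (x : K.obj V) (a : P.obj (op U)) :
    germHom P K V x (P.map f.op a) = germHom P K U (K.map f x) a :=
  germ_map (CategoryOfElements.homMk (K.elementsMk V x) (K.elementsMk U (K.map f x)) f rfl) a

theorem exists_of_germHom_eq {U : C} (x : K.obj U) {a b : P.obj (op U)}
    (h : germHom P K U x a = germHom P K U x b) :
    ∃ (V : C) (f : V ⟶ U) (y : K.obj V), K.map f y = x ∧ P.map f.op a = P.map f.op b := by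
  obtain ⟨e', f, hf⟩ := germ_eq_same (e := K.elementsMk U x) h
  exact ⟨e'.1, f.1, e'.2, f.2, hf⟩

end Germ

section Godement

variable {Pt : Type u} (K : Pt → C ⥤ Type u) [∀ p, IsCofiltered (K p).Elements]
  (P : Cᵒᵖ ⥤ GrpCat.{u + 1})

/-- The Godement presheaf: all families of germs at all points. -/
noncomputable def godementPre : Cᵒᵖ ⥤ GrpCat.{u + 1} where
  obj U := GrpCat.of (∀ p : Pt, (K p).obj U.unop → Germ P (K p))
  map {U V} f := GrpCat.ofHom
    { toFun := fun g p x => g p ((K p).map f.unop x)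
      map_one' := rfl
      map_mul' := fun _ _ => rfl }
  map_id U := by
    ext g p x
    change g p ((K p).map (𝟙 U.unop) x) = g p x
    simp
  map_comp f g := by
    ext a p x
    change a p ((K p).map (g.unop ≫ f.unop) x) = a p ((K p).map f.unop ((K p).map g.unop x))
    simp

variable {J : GrothendieckTopology C}
  (hjs : ∀ p ⦃U : C⦄ (S : Sieve U), S ∈ J U → ∀ x : (K p).obj U,
    ∃ (V : C) (f : V ⟶ U) (_ : S f) (y : (K p).obj V), (K p).map f y = x)

include hjs in
theorem isSheaf_godementPre : Presheaf.IsSheaf J (godementPre K P) := by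
  rw [Presheaf.isSheaf_iff_isSheaf_forget J (godementPre K P) (forget GrpCat.{u + 1}),
    isSheaf_iff_isSheaf_of_type]
  intro U S hS x hx
  choose V f hf y hy using fun p => hjs p S hS
  let a : ∀ p, (K p).obj U → Germ P (K p) := fun p z => x (f p z) (hf p z) p (y p z)
  refine ⟨a, fun W g hg => funext fun p => funext fun z => ?_, fun b hb => funext fun p =>
    funext fun z => ?_⟩
  · show a p ((K p).map g z) = x g hg p z
    obtain ⟨e, i, i', hi⟩ := IsCofiltered.cospan
      (CategoryOfElements.homMk ((K p).elementsMk (V p ((K p).map g z)) (y p _))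
        ((K p).elementsMk U ((K p).map g z)) (f p ((K p).map g z)) (hy p _))
      (CategoryOfElements.homMk ((K p).elementsMk W z) _ g rfl)
    have h := hx i.1 i'.1 (hf p _) hg (congrArg Subtype.val hi)
    have h2 := congrFun (congrFun h p) e.2
    change x _ _ p ((K p).map i.1 e.2) = x _ _ p ((K p).map i'.1 e.2) at h2
    rw [i.2, i'.2] at h2
    exact h2
  · show b p z = x (f p z) (hf p z) p (y p z)
    rw [← hb (f p z) (hf p z)]
    show b p z = b p ((K p).map (f p z) (y p z))
    rw [hy]

variable (J) in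
include hjs in
/-- The Godement sheaf. -/
noncomputable def godement : Sheaf J GrpCat.{u + 1} := ⟨godementPre K P, isSheaf_godementPre K P hjs⟩

/-- The canonical map to the Godement presheaf. -/
noncomputable def toGodementPre : P ⟶ godementPre K P where
  app U := GrpCat.ofHom
    { toFun := fun a p x => germHom P (K p) U.unop x a
      map_one' := funext fun p => funext fun x => map_one _
      map_mul' := fun a b => funext fun p => funext fun x => map_mul _ a b }
  naturality U V f := by
    refine ConcreteCategory.hom_ext _ _ fun a => ?_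
    funext p x
    exact germHom_map f.unop x a

theorem toGodementPre_injective (hcons : ∀ ⦃U : C⦄ (S : Sieve U),
      (∀ p (x : (K p).obj U), ∃ (V : C) (f : V ⟶ U) (_ : S f) (y : (K p).obj V),
        (K p).map f y = x) → S ∈ J U)
    (F : Sheaf J GrpCat.{u + 1}) (U : Cᵒᵖ) :
    Function.Injective ((toGodementPre K F.obj).app U) := by
  intro a b h
  let S : Sieve U.unop :=
    { arrows := fun V f => F.obj.map f.op a = F.obj.map f.op b
      downward_closed := fun {V W f} hf g => by
        rw [← pmap_map, hf, pmap_map] }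
  have hS : S ∈ J U.unop := hcons S fun p x => by
    obtain ⟨V, f, y, hy, hf⟩ := exists_of_germHom_eq x (congrFun (congrFun h p) x)
    exact ⟨V, f, hf, y, hy⟩
  exact sheaf_ext ((sheafCompose J (forget GrpCat.{u + 1})).obj F) hS fun V f hf => hf

include hjs in
/-- Every torsor under the Godement sheaf on a slice site is trivial. -/
theorem isTrivial_torsor_godement (U : C) (T : NonAbH1.Torsor ((godement K P J hjs).over U)) :
    T.IsTrivial := by
  rw [isTrivial_iff_hasSection T.isTorsor.1]
  have hT := T.isTorsor.1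
  obtain ⟨S, hS, hne⟩ := T.isTorsor.2 (Over.mk (𝟙 U))
  have base : ∀ p (x : (K p).obj U), ∃ (k : Over U) (v : (K p).obj k.left),
      (K p).map k.hom v = x ∧ Nonempty (T.P.obj.obj (op k)) := by
    intro p x
    obtain ⟨V, f, hf, y, hy⟩ := hjs p _ ((J.mem_over_iff S).mp hS) x
    obtain ⟨W, g, a, hg, rfl⟩ := hf
    have e : g.left = W.hom := by simpa using Over.w g
    obtain ⟨t⟩ := hne g hg
    refine ⟨W, (K p).map a y, ?_, ⟨t⟩⟩
    rw [← e]
    exact (FunctorToTypes.map_comp_apply (K p) a g.left y).symm.trans hy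
  choose kp vp hvp hnp using base
  let p0 : ∀ p (x : (K p).obj U), T.P.obj.obj (op (kp p x)) := fun p x => (hnp p x).some
  have key : ∀ (k : Over U) (q : T.P.obj.obj (op k)) (p : Pt) (x : (K p).obj k.left),
      ∃ m : Germ P (K p), ∀ (c : Over U) (a : c ⟶ k) (b : c ⟶ kp p ((K p).map k.hom x))
        (w : (K p).obj c.left), (K p).map a.left w = x → (K p).map b.left w = vp p _ →
        diff hT (T.P.obj.map b.op (p0 p _)) (T.P.obj.map a.op q) p w = m := by
    intro k q p x
    let ek : (K p).Elements := (K p).elementsMk k.left x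
    let eb : (K p).Elements := (K p).elementsMk (kp p ((K p).map k.hom x)).left (vp p _)
    obtain ⟨e, i, i', hi⟩ := IsCofiltered.cospan
      (CategoryOfElements.homMk ek ((K p).elementsMk U ((K p).map k.hom x)) k.hom rfl)
      (CategoryOfElements.homMk eb _ (kp p ((K p).map k.hom x)).hom (hvp p _))
    have hi' : i.1 ≫ k.hom = i'.1 ≫ (kp p ((K p).map k.hom x)).hom := congrArg Subtype.val hi
    let a₀ : Over.mk (i.1 ≫ k.hom) ⟶ k := Over.homMk i.1
    let b₀ : Over.mk (i.1 ≫ k.hom) ⟶ kp p ((K p).map k.hom x) := Over.homMk i'.1 hi'.symm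
    refine ⟨diff hT (T.P.obj.map b₀.op (p0 p _)) (T.P.obj.map a₀.op q) p e.2, ?_⟩
    intro c a b w ha hb
    let ec : (K p).Elements := (K p).elementsMk c.left w
    obtain ⟨e₁, j, j', hj⟩ := IsCofiltered.cospan
      (CategoryOfElements.homMk ec ek a.left ha) (i : e ⟶ ek)
    let je : (K p).Elements :=
      IsCofiltered.eq (j ≫ CategoryOfElements.homMk ec eb b.left hb) (j' ≫ i')
    let r : je ⟶ e₁ := IsCofiltered.eqHom _ _
    have hr : r.1 ≫ j.1 ≫ b.left = r.1 ≫ j'.1 ≫ i'.1 :=
      congrArg Subtype.val (IsCofiltered.eq_condition (j ≫ CategoryOfElements.homMk ec eb b.left hb) (j' ≫ i'))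
    have hja : j.1 ≫ a.left = j'.1 ≫ i.1 := congrArg Subtype.val hj
    let d : Over U := Over.mk ((r.1 ≫ j.1) ≫ c.hom)
    let dc : d ⟶ c := Over.homMk (r.1 ≫ j.1)
    let de : d ⟶ Over.mk (i.1 ≫ k.hom) := Over.homMk (r.1 ≫ j'.1) (by
      show (r.1 ≫ j'.1) ≫ i.1 ≫ k.hom = (r.1 ≫ j.1) ≫ c.hom
      rw [← Over.w a]
      simp only [Category.assoc, reassoc_of% hja])
    have h1 : dc ≫ a = de ≫ a₀ := by
      ext
      simp [dc, de, a₀, hja]
    have h2 : dc ≫ b = de ≫ b₀ := by
      ext
      simp [dc, de, b₀, hr]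
    have hw1 : (K p).map dc.left je.2 = w := by
      show (K p).map (r.1 ≫ j.1) je.2 = w
      rw [Functor.map_comp]
      exact (congrArg _ r.2).trans j.2
    have hw2 : (K p).map de.left je.2 = e.2 := by
      show (K p).map (r.1 ≫ j'.1) je.2 = e.2
      rw [Functor.map_comp]
      exact (congrArg _ r.2).trans j'.2
    have e1 := congrFun (congrFun (diff_map hT dc.op (T.P.obj.map b.op (p0 p _))
      (T.P.obj.map a.op q)) p) je.2
    have e2 := congrFun (congrFun (diff_map hT de.op (T.P.obj.map b₀.op (p0 p _))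
      (T.P.obj.map a₀.op q)) p) je.2
    rw [map_map, map_map, h1, h2] at e1
    rw [map_map, map_map] at e2
    exact ((congrArg _ hw1.symm).trans e1.symm).trans (e2.trans (congrArg _ hw2))
  choose d hd using key
  have hd' : ∀ (k : Over U) (q : T.P.obj.obj (op k)) (p : Pt) (x : (K p).obj k.left)
      (y : (K p).obj U) (_ : (K p).map k.hom x = y)
      (c : Over U) (a : c ⟶ k) (b : c ⟶ kp p y) (w : (K p).obj c.left),
      (K p).map a.left w = x → (K p).map b.left w = vp p y →
        diff hT (T.P.obj.map b.op (p0 p y)) (T.P.obj.map a.op q) p w = d k q p x := by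
    intro k q p x y hxy
    subst hxy
    exact hd k q p x
  have hd_map : ∀ {k k' : Over U} (h : k' ⟶ k) (q : T.P.obj.obj (op k)) p (x : (K p).obj k'.left),
      d k' (T.P.obj.map h.op q) p x = d k q p ((K p).map h.left x) := by
    intro k k' h q p x
    have hx : (K p).map k.hom ((K p).map h.left x) = (K p).map k'.hom x := by
      exact ((Functor.map_comp_apply (K p) h.left k.hom x).symm.trans (by rw [Over.w h]))
    obtain ⟨e, i, i', hi⟩ := IsCofiltered.cospan
      (CategoryOfElements.homMk ((K p).elementsMk k'.left x)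
        ((K p).elementsMk U ((K p).map k'.hom x)) k'.hom rfl)
      (CategoryOfElements.homMk
        ((K p).elementsMk (kp p ((K p).map k'.hom x)).left (vp p _))
        _ (kp p ((K p).map k'.hom x)).hom (hvp p _))
    have hi' : i.1 ≫ k'.hom = i'.1 ≫ (kp p ((K p).map k'.hom x)).hom := congrArg Subtype.val hi
    let a₀ : Over.mk (i.1 ≫ k'.hom) ⟶ k' := Over.homMk i.1
    let b₀ : Over.mk (i.1 ≫ k'.hom) ⟶ kp p ((K p).map k'.hom x) := Over.homMk i'.1 hi'.symm
    rw [← hd k' _ p x _ a₀ b₀ e.2 i.2 i'.2]
    rw [map_map]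
    exact hd' k q p _ _ hx _ (a₀ ≫ h) b₀ e.2 (by
      show (K p).map (i.1 ≫ h.left) e.2 = _
      rw [Functor.map_comp]
      exact congrArg _ i.2) i'.2
  have hd_smul : ∀ (k : Over U) g (q : T.P.obj.obj (op k)) p (x : (K p).obj k.left),
      d k (T.smul g q) p x = g p x * d k q p x := by
    intro k g q p x
    obtain ⟨e, i, i', hi⟩ := IsCofiltered.cospan
      (CategoryOfElements.homMk ((K p).elementsMk k.left x)
        ((K p).elementsMk U ((K p).map k.hom x)) k.hom rfl)
      (CategoryOfElements.homMk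
        ((K p).elementsMk (kp p ((K p).map k.hom x)).left (vp p _))
        _ (kp p ((K p).map k.hom x)).hom (hvp p _))
    have hi' : i.1 ≫ k.hom = i'.1 ≫ (kp p ((K p).map k.hom x)).hom := congrArg Subtype.val hi
    let a₀ : Over.mk (i.1 ≫ k.hom) ⟶ k := Over.homMk i.1
    let b₀ : Over.mk (i.1 ≫ k.hom) ⟶ kp p ((K p).map k.hom x) := Over.homMk i'.1 hi'.symm
    rw [← hd k _ p x _ a₀ b₀ e.2 i.2 i'.2, ← hd k q p x _ a₀ b₀ e.2 i.2 i'.2, T.map_smul,
      diff_smul_right]
    show g p ((K p).map i.1 e.2) * _ = g p x * _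
    rw [i.2]
  obtain ⟨c, -⟩ := exists_sections T.P (fun k q => ∀ p x, d k q p x = 1)
    (fun k k' h q hq p x => by rw [hd_map, hq])
    (fun k q q' hq hq' => by
      obtain ⟨g, rfl, -⟩ := hT _ q q'
      have hg : g = 1 := funext fun p => funext fun x => by
        have := hq' p x
        rwa [hd_smul, hq, mul_one] at this
      rw [hg, T.one_smul])
    (fun k => by
      obtain ⟨S, hS, hS'⟩ := T.isTorsor.2 k
      refine ⟨S, hS, fun k' f hf => ?_⟩
      obtain ⟨q⟩ := hS' f hf
      exact ⟨T.smul (fun p x => (d k' q p x)⁻¹) q, fun p x => by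
        rw [hd_smul]; exact inv_mul_cancel _⟩)
  exact ⟨c.1, c.2⟩

end Godement

end NonAbLib
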