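import Groth.Agent.NonAb.SchTorsor
import Groth.Agent.Et18.Descent
import Groth.Agent.FlatMorWeight.Comp
import Mathlib.AlgebraicGeometry.Morphisms.FlatRank
import Mathlib.AlgebraicGeometry.Morphisms.UniversallyInjective
import Mathlib.FieldTheory.PurelyInseparable.Basic

/-!
# Torsors under finite connected group schemes over a field
-/

set_option backward.isDefEq.respectTransparency.types false

universe u

open CategoryTheory Limits MonoidalCategory CartesianMonoidalCategory MonObj GrpObj AlgebraicGeometry

namespace NonAbLib

variable {K : Type u} [Field K] {G X : Over (Spec (CommRingCat.of K))} [GrpObj G]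

instance (priority := 50) {Y : Scheme.{u}} (g : Y ⟶ Spec (CommRingCat.of K)) : Flat g := by
  infer_instance

theorem discreteTopology_of_finite {Y : Scheme.{u}} (g : Y ⟶ Spec (CommRingCat.of K))
    [LocallyQuasiFinite g] : DiscreteTopology Y := by
  have h1 := g.isDiscrete_preimage_singleton (default : Spec (CommRingCat.of K))
  have h2 : g ⁻¹' {(default : Spec (CommRingCat.of K))} = Set.univ :=
    Set.eq_univ_of_forall fun y => Subsingleton.elim (g y) _
  rw [h2] at h1
  exact isDiscrete_univ_iff.mp h1

theorem subsingleton_of_connected [IsFinite G.hom] [ConnectedSpace G.left] :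
    Subsingleton G.left :=
  have := discreteTopology_of_finite G.hom
  PreconnectedSpace.trivial_of_discrete

theorem universallyInjective_of_connected [IsFinite G.hom] [ConnectedSpace G.left] :
    UniversallyInjective G.hom := by
  have := subsingleton_of_connected (G := G)
  rw [UniversallyInjective.iff_diagonal]
  refine ⟨fun z => ?_⟩
  let e : Spec (CommRingCat.of K) ⟶ G.left := η[G].left
  have he : e ≫ G.hom = 𝟙 _ := Over.w η[G]
  obtain ⟨w, -, hw⟩ := Scheme.Pullback.exists_preimage_pullback (f := e)
    (g := pullback.fst G.hom G.hom) default z (Subsingleton.elim _ _)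
  let l : G.left ⟶ pullback G.hom G.hom := pullback.lift (G.hom ≫ e) (𝟙 _) (by simp [he])
  have hl : pullback.snd e (pullback.fst G.hom G.hom) =
      (pullback.snd e (pullback.fst G.hom G.hom) ≫ pullback.snd G.hom G.hom) ≫ l := by
    refine pullback.hom_ext ?_ (by
      simp only [Category.assoc]
      rw [show l ≫ pullback.snd G.hom G.hom = 𝟙 _ from pullback.lift_snd _ _ _, Category.comp_id])
    have h1 : pullback.fst e (pullback.fst G.hom G.hom) =
        pullback.snd e (pullback.fst G.hom G.hom) ≫ pullback.snd G.hom G.hom ≫ G.hom := by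
      rw [← pullback.condition, ← pullback.condition_assoc, he, Category.comp_id]
    simp only [l, Category.assoc, pullback.lift_fst]
    rw [← pullback.condition, h1]
    simp only [Category.assoc]
  have hz : l (e default) = z := by
    rw [← hw, hl, Scheme.Hom.comp_apply]
    exact congrArg l (Subsingleton.elim _ _)
  refine ⟨e default, ?_⟩
  rw [← hz, ← Scheme.Hom.comp_apply, ← Scheme.Hom.comp_apply]
  have h : e ≫ pullback.diagonal G.hom = e ≫ l := by
    refine pullback.hom_ext ?_ ?_
    · rw [Category.assoc, Category.assoc, pullback.diagonal_fst, pullback.lift_fst, Category.comp_id,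
        ← Category.assoc, he, Category.id_comp]
    · rw [Category.assoc, Category.assoc, pullback.diagonal_snd, pullback.lift_snd]
  rw [h]

/-- The point of a torsor under a finite connected group: a purely inseparable extension, of degree
at most the order of the group. -/
theorem exists_point {a : AlgGrp.Action G X} (ha : NonAbH1.IsTorsorFor Scheme.fpqcPrecoverage a)
    [IsFinite G.hom] [ConnectedSpace G.left] :
    ∃ (E : Type u) (_ : Field E) (φ : K →+* E) (x : Spec (CommRingCat.of E) ⟶ X.left),
      x ≫ X.hom = Spec.map (CommRingCat.ofHom φ) ∧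
      (letI := φ.toAlgebra; IsPurelyInseparable K E ∧ Module.Finite K E ∧
        Module.finrank K E ≤ G.hom.finrank default) ∧
      (∀ (T : Scheme.{u}) (σ : T ⟶ X.left) (t : T), ∃ ψ : CommRingCat.of E ⟶ T.residueField t,
        T.fromSpecResidueField t ≫ σ = Spec.map ψ ≫ x) := by
  have := universallyInjective_of_connected (G := G)
  have : IsFinite X.hom := property_hom @IsFinite Groth.Agent.Et18.descends_isFinite ha ‹_›
  have : UniversallyInjective X.hom := property_hom @UniversallyInjective inferInstance ha ‹_›
  have := surjective_hom a ha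
  obtain ⟨p, -⟩ := X.hom.surjective default
  let q := X.left.fromSpecResidueField p ≫ X.hom
  have : IsFinite q := IsFinite.of_locallyQuasiFinite _
  have : UniversallyInjective q := MorphismProperty.comp_mem @UniversallyInjective
    (X.left.fromSpecResidueField p) X.hom inferInstance ‹_›
  let φ : CommRingCat.of K ⟶ X.left.residueField p := Spec.preimage q
  have hφ : Spec.map φ = q := Spec.map_preimage q
  refine ⟨X.left.residueField p, inferInstance, φ.hom, X.left.fromSpecResidueField p, hφ.symm, ?_,
    fun T σ t => ?_⟩
  · let E := X.left.residueField p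
    letI := φ.hom.toAlgebra
    have hq : Spec.map (CommRingCat.ofHom (algebraMap K E)) = q := hφ
    have hfin : Module.Finite K E := by
      have := (IsFinite.SpecMap_iff φ).mp (by rw [hφ]; infer_instance)
      exact this
    have : Algebra.IsAlgebraic K E := Algebra.IsAlgebraic.of_finite K E
    refine ⟨?_, hfin, ?_⟩
    · rw [isPurelyInseparable_iff_subsingleton_emb]
      refine ⟨fun σ₁ σ₂ => AlgHom.coe_ringHom_injective ?_⟩
      have inj : Function.Injective
          (fun g : Spec (CommRingCat.of (AlgebraicClosure (X.left.residueField p))) ⟶ Spec (X.left.residueField p) => g ≫ q) :=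
        ((tfae_universallyInjective q).out 0 1 rfl rfl).mp ‹_› _
      have h2 : Spec.map (CommRingCat.ofHom σ₁.toRingHom) = Spec.map (CommRingCat.ofHom σ₂.toRingHom) :=
        inj (show Spec.map (CommRingCat.ofHom σ₁.toRingHom) ≫ q = Spec.map (CommRingCat.ofHom σ₂.toRingHom) ≫ q by
          simp only [← hq, ← Spec.map_comp, ← CommRingCat.ofHom_comp, AlgHom.comp_algebraMap,
            AlgHom.toRingHom_eq_coe])
      exact congrArg CommRingCat.Hom.hom (Spec.map_injective h2)
    · have : IsAffine X.left := isAffine_of_isAffineHom X.hom
      let A := Γ(X.left, ⊤)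
      let ψ : CommRingCat.of K ⟶ A := Spec.preimage (X.left.isoSpec.inv ≫ X.hom)
      have hψ : Spec.map ψ = X.left.isoSpec.inv ≫ X.hom := Spec.map_preimage _
      letI : Algebra K A := ψ.hom.toAlgebra
      have hψfin : ψ.hom.Finite := (IsFinite.SpecMap_iff ψ).mp (by rw [hψ]; infer_instance)
      have : Module.Finite K A := hψfin
      let π : A ⟶ E := Spec.preimage (X.left.fromSpecResidueField p ≫ X.left.isoSpec.hom)
      have hπ : Spec.map π = X.left.fromSpecResidueField p ≫ X.left.isoSpec.hom := Spec.map_preimage _
      have hcl : IsClosedImmersion (X.left.fromSpecResidueField p) := by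
        have := discreteTopology_of_finite X.hom
        exact IsClosedImmersion.of_isPreimmersion _ (isClosed_discrete _)
      have hsurj : Function.Surjective π.hom := by
        have : IsClosedImmersion (Spec.map π) := by rw [hπ]; infer_instance
        have h := (IsClosedImmersion.isAffine_surjective_of_isAffine (Spec.map π)).2
        have e : π = (Scheme.ΓSpecIso A).inv ≫ (Spec.map π).appTop ≫ (Scheme.ΓSpecIso E).hom := by
          rw [Scheme.ΓSpecIso_naturality, Iso.inv_hom_id_assoc]
        rw [e]
        simp only [CommRingCat.hom_comp, RingHom.coe_comp]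
        exact (ConcreteCategory.bijective_of_isIso _).2.comp (h.comp (ConcreteCategory.bijective_of_isIso _).2)
      have hcomp : ψ ≫ π = φ := Spec.map_injective (by
        rw [Spec.map_comp, hψ, hπ, hφ, Category.assoc, Iso.hom_inv_id_assoc])
      let πl : A →ₗ[K] E := AlgHom.toLinearMap
        { π.hom with commutes' := fun r => congrArg (fun f => f.hom r) hcomp }
      refine (LinearMap.finrank_le_finrank_of_surjective (f := πl) hsurj).trans (le_of_eq ?_)
      obtain ⟨hps, R, hR, hsec⟩ := ha
      obtain ⟨𝒰, h𝒰⟩ := exists_cover hR
      obtain ⟨i, t, -⟩ :=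
        ((Scheme.presieve₀_mem_precoverage_iff 𝒰.toPreZeroHypercover).1 𝒰.mem₀.2).1 default
      obtain ⟨s, hs⟩ := hsec _ (h𝒰 i)
      have := isIso_trivMap hps (Over.homMk (U := Over.mk (𝒰.f i)) s hs)
      have : IsIso (trivMap a (Over.homMk (U := Over.mk (𝒰.f i)) s hs)).left :=
        Functor.map_isIso (Over.forget _) (trivMap a (Over.homMk (U := Over.mk (𝒰.f i)) s hs))
      have e1 : X.hom.finrank default = G.hom.finrank default := by
        rw [Subsingleton.elim default ((𝒰.f i) t), ← Scheme.Hom.finrank_pullback_snd X.hom (𝒰.f i) t,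
          ← Scheme.Hom.finrank_pullback_snd G.hom (𝒰.f i) t,
          ← Scheme.Hom.finrank_comp_left_of_isIso
            (trivMap a (Over.homMk (U := Over.mk (𝒰.f i)) s hs)).left (pullback.snd X.hom (𝒰.f i))]
        exact congrArg (fun f => Scheme.Hom.finrank f t)
          (trivMap_snd a (Over.homMk (U := Over.mk (𝒰.f i)) s hs))
      rw [← e1, ← Scheme.Hom.finrank_comp_left_of_isIso X.left.isoSpec.inv X.hom, ← hψ]
      refine Eq.trans ?_ (Scheme.Hom.finrank_SpecMap_algebraMap K A _).symm
      rw [Module.rankAtStalk_eq_finrank_of_free]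
      rfl
  · obtain ⟨⟨p', ψ⟩, e⟩ := (X.left.SpecToEquivOfField (T.residueField t)).symm.surjective
      (T.fromSpecResidueField t ≫ σ)
    obtain rfl : p' = p := X.hom.injective (Subsingleton.elim _ _)
    exact ⟨ψ, e.symm⟩

end NonAbLib

namespace NonAbLib

variable {K : Type u} [Field K] {G X : Over (Spec (CommRingCat.of K))} [GrpObj G]

/-- Triviality from a homomorphism back to the base field. -/
theorem hasSectionOver_of_ringHom {E : Type u} [Field E] {φ : K →+* E}
    {x : Spec (CommRingCat.of E) ⟶ X.left} (hx : x ≫ X.hom = Spec.map (CommRingCat.ofHom φ))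
    (θ : E →+* K) {c : K →+* K} (h : θ.comp φ = c) :
    NonAbH1.HasSectionOver X (Spec.map (CommRingCat.ofHom c)) :=
  ⟨Spec.map (CommRingCat.ofHom θ) ≫ x, by
    rw [Category.assoc, hx, ← Spec.map_comp, ← CommRingCat.ofHom_comp, h]⟩

/-- Triviality from separability of the residue field. -/
theorem hasSectionOver_of_separable {E : Type u} [Field E] {φ : K →+* E}
    {x : Spec (CommRingCat.of E) ⟶ X.left} (hx : x ≫ X.hom = Spec.map (CommRingCat.ofHom φ))
    (hpi : letI := φ.toAlgebra; IsPurelyInseparable K E)
    (hsep : letI := φ.toAlgebra; Algebra.IsSeparable K E) :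
    NonAbH1.HasSectionOver X (𝟙 (Spec (CommRingCat.of K))) := by
  letI := φ.toAlgebra
  have hb : Function.Bijective φ := IsPurelyInseparable.bijective_algebraMap_of_isSeparable K E
  let e := RingEquiv.ofBijective φ hb
  have h := hasSectionOver_of_ringHom hx e.symm.toRingHom (c := RingHom.id K)
    (RingHom.ext fun k => e.symm_apply_apply k)
  rwa [CommRingCat.ofHom_id, Spec.map_id] at h

/-- Residue fields of étale schemes over a field are separable. -/
theorem isSeparable_residueField_of_etale {T : Scheme.{u}} (g : T ⟶ Spec (CommRingCat.of K))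
    [Etale g] (t : T) (χ : CommRingCat.of K ⟶ T.residueField t)
    (hχ : Spec.map χ = T.fromSpecResidueField t ≫ g) :
    letI := χ.hom.toAlgebra; Algebra.IsSeparable K (T.residueField t) := by
  letI := χ.hom.toAlgebra
  have := Groth.Agent.FlatMorWeight.locallyQuasiFinite_of_etale g
  have hfin : IsFinite (Spec.map χ) := by
    rw [hχ]; exact IsFinite.of_locallyQuasiFinite _
  have : Module.Finite K (T.residueField t) := (IsFinite.SpecMap_iff χ).mp hfin
  have hu : FormallyUnramified (Spec.map χ) := by
    rw [hχ]
    have : IsIso (pullback.diagonal (T.fromSpecResidueField t)) := inferInstance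
    have h1 : FormallyUnramified (T.fromSpecResidueField t) := inferInstance
    exact MorphismProperty.comp_mem @FormallyUnramified (T.fromSpecResidueField t) g h1 inferInstance
  have : Algebra.FormallyUnramified K (T.residueField t) :=
    (HasRingHomProperty.Spec_iff (P := @FormallyUnramified)).mp hu
  exact Algebra.FormallyUnramified.isSeparable K _

end NonAbLib
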