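import Groth.Agent.NonAb.Glue

/-!
# Torsors under a sheaf of groups on a site: translation elements, morphisms, triviality, classes
-/

universe w w' v u

open CategoryTheory Opposite

namespace NonAbLib

open NonAbH1

variable {C : Type u} [Category.{v} C] {J : GrothendieckTopology C} {G : Sheaf J GrpCat.{w}}

section Pseudo

variable {P : GSheaf G} (hP : P.IsPseudoTorsor)

/-- The translation element between two sections of a pseudo-torsor. -/
noncomputable def diff {U : Cᵒᵖ} (p q : P.P.obj.obj U) : G.obj.obj U := (hP U p q).choose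

theorem diff_smul {U : Cᵒᵖ} (p q : P.P.obj.obj U) : P.smul (diff hP p q) p = q :=
  (hP U p q).choose_spec.1

theorem diff_eq {U : Cᵒᵖ} {p q : P.P.obj.obj U} {g : G.obj.obj U} (h : P.smul g p = q) :
    diff hP p q = g :=
  ((hP U p q).choose_spec.2 g h).symm

include hP in
theorem smul_right_cancel {U : Cᵒᵖ} {g g' : G.obj.obj U} {p : P.P.obj.obj U}
    (h : P.smul g p = P.smul g' p) : g = g' :=
  (hP U p _).unique h rfl

theorem diff_self {U : Cᵒᵖ} (p : P.P.obj.obj U) : diff hP p p = 1 := diff_eq hP (P.one_smul p)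

theorem diff_trans {U : Cᵒᵖ} (p q r : P.P.obj.obj U) :
    diff hP q r * diff hP p q = diff hP p r :=
  (diff_eq hP (by rw [P.mul_smul, diff_smul, diff_smul])).symm

theorem diff_smul_right {U : Cᵒᵖ} (g : G.obj.obj U) (p q : P.P.obj.obj U) :
    diff hP p (P.smul g q) = g * diff hP p q :=
  diff_eq hP (by rw [P.mul_smul, diff_smul])

theorem diff_map {U V : Cᵒᵖ} (f : U ⟶ V) (p q : P.P.obj.obj U) :
    diff hP (P.P.obj.map f p) (P.P.obj.map f q) = G.obj.map f (diff hP p q) :=
  diff_eq hP (by rw [← P.map_smul, diff_smul])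

end Pseudo

/-- An equivariant morphism from a locally nonempty pseudo-torsor to a pseudo-torsor is bijective
on sections. -/
theorem hom_bijective {P Q : GSheaf G} (hP : P.IsTorsor) (hQ : Q.IsPseudoTorsor) (f : P ⟶ Q)
    (U : Cᵒᵖ) : Function.Bijective (f.hom.hom.app U) := by
  have hinj : ∀ U : Cᵒᵖ, Function.Injective (f.hom.hom.app U) := fun U p q h => by
    obtain ⟨g, rfl, -⟩ := hP.1 U p q
    rw [f.map_smul] at h
    have hg : (1 : G.obj.obj U) = g := smul_right_cancel hQ (by rw [Q.one_smul]; exact h)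
    rw [← hg, P.one_smul]
  refine ⟨hinj U, ?_⟩
  obtain ⟨X⟩ := U
  intro q
  obtain ⟨S, hS, hne⟩ := hP.2 X
  obtain ⟨s, hs⟩ := exists_glue P.P hS
    (fun V a y => f.hom.hom.app (op V) y = Q.P.obj.map a.op q)
    (fun V W a g y _ h => by
      rw [NatTrans.naturality_apply f.hom.hom g.op y, h, map_map])
    (fun V a y y' _ h h' => hinj (op V) (h.trans h'.symm))
    (fun V a ha => by
      obtain ⟨p⟩ := hne a ha
      exact ⟨P.smul (diff hQ (f.hom.hom.app (op V) p) (Q.P.obj.map a.op q)) p, by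
        rw [f.map_smul, diff_smul]⟩)
  refine ⟨s, sheaf_ext Q.P hS fun V a ha => ?_⟩
  rw [← hs a ha, NatTrans.naturality_apply f.hom.hom a.op s]

/-- An equivariant morphism of sheaves which is bijective on sections gives an isomorphism. -/
theorem nonempty_iso_of_bijective {P Q : GSheaf G} (f : P ⟶ Q)
    (hf : ∀ U : Cᵒᵖ, Function.Bijective (f.hom.hom.app U)) : Nonempty (P ≅ Q) := by
  have : ∀ U : Cᵒᵖ, IsIso (f.hom.hom.app U) := fun U => (isIso_iff_bijective _).mpr (hf U)
  have : IsIso f.hom.hom := NatIso.isIso_of_isIso_app _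
  have : IsIso f.hom := (isIso_iff_of_reflects_iso f.hom (sheafToPresheaf J _)).mp
    (show IsIso f.hom.hom from this)
  refine ⟨⟨f, ⟨inv f.hom, fun {U} g q => ?_⟩, ?_, ?_⟩⟩
  · apply (hf U).1
    have h : ∀ x, f.hom.hom.app U ((inv f.hom).hom.app U x) = x := fun x => by
      have := congrArg (fun k : Q.P ⟶ Q.P => k.hom.app U x) (IsIso.inv_hom_id f.hom)
      simpa using this
    rw [h, f.map_smul, h]
  · exact GSheaf.hom_ext (IsIso.hom_inv_id f.hom)
  · exact GSheaf.hom_ext (IsIso.inv_hom_id f.hom)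

/-- An equivariant morphism of torsors is an isomorphism. -/
theorem nonempty_iso_of_hom {P Q : GSheaf G} (hP : P.IsTorsor) (hQ : Q.IsPseudoTorsor)
    (f : P ⟶ Q) : Nonempty (P ≅ Q) :=
  nonempty_iso_of_bijective f (hom_bijective hP hQ f)

/-- Build an equivariant morphism from section-wise maps. -/
theorem exists_hom {P Q : GSheaf G} (φ : ∀ U : Cᵒᵖ, P.P.obj.obj U → Q.P.obj.obj U)
    (hn : ∀ ⦃U V : Cᵒᵖ⦄ (f : U ⟶ V) (p), φ V (P.P.obj.map f p) = Q.P.obj.map f (φ U p))
    (he : ∀ (U : Cᵒᵖ) (g : G.obj.obj U) (p), φ U (P.smul g p) = Q.smul g (φ U p)) :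
    ∃ f : P ⟶ Q, ∀ U p, f.hom.hom.app U p = φ U p :=
  ⟨⟨⟨{ app := fun U => ↾(φ U)
       naturality := fun U V f => by ext p; exact hn f p }⟩, fun g p => he _ g p⟩, fun _ _ => rfl⟩

variable [J.HasSheafCompose (forget GrpCat.{w})]

/-- The morphism from the trivial torsor given by a global section. -/
theorem exists_hom_of_section (P : GSheaf G) (s : P.P.obj.sections) :
    ∃ f : GSheaf.trivial G ⟶ P, ∀ U g, f.hom.hom.app U g = P.smul (GSheaf.toGrp g) (s.1 U) :=
  exists_hom (P := GSheaf.trivial G) (fun U g => P.smul (GSheaf.toGrp g) (s.1 U))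
    (fun U V f g => by rw [P.map_smul, s.2 f]; rfl)
    (fun U g p => P.mul_smul g (GSheaf.toGrp p) (s.1 U))

/-- A torsor is trivial exactly when it has a global section. -/
theorem isTrivial_iff_hasSection {P : GSheaf G} (hP : P.IsPseudoTorsor) :
    P.IsTrivial ↔ P.HasSection := by
  constructor
  · rintro ⟨e⟩
    refine ⟨fun U => e.hom.hom.hom.app U (GSheaf.ofGrp (1 : G.obj.obj U)), fun {U V} f => ?_⟩
    rw [← NatTrans.naturality_apply e.hom.hom.hom f]
    exact congrArg _ (map_one (G.obj.map f).hom)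
  · rintro ⟨s, hs⟩
    obtain ⟨f, -⟩ := exists_hom_of_section P ⟨s, hs⟩
    exact nonempty_iso_of_hom (GSheaf.isTorsor_trivial G) hP f

omit [J.HasSheafCompose (forget GrpCat.{w})] in
/-- Equality of classes is existence of an equivariant isomorphism. -/
theorem cl_eq_iff (P Q : Torsor G) : P.cl = Q.cl ↔ Nonempty (P.toGSheaf ≅ Q.toGSheaf) := by
  constructor
  · intro h
    have := Quot.eqvGen_exact h
    clear h
    induction this with
    | rel _ _ h => exact h
    | refl x => exact ⟨Iso.refl _⟩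
    | symm _ _ _ ih => exact ih.map Iso.symm
    | trans _ _ _ _ _ ih ih' => exact ⟨ih.some ≪≫ ih'.some⟩
  · exact fun h => Quot.sound h

/-- A torsor has the base class exactly when it has a global section. -/
theorem cl_eq_one_iff (P : Torsor G) : P.cl = 1 ↔ P.HasSection := by
  rw [← isTrivial_iff_hasSection P.isTorsor.1]
  exact (cl_eq_iff P (trivialTorsor G)).trans
    ⟨fun h => h.map Iso.symm, fun h => h.map Iso.symm⟩

end NonAbLib
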